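import Cfsg.Agent.Lib.FusionEssential.Flag
import Cfsg.Agent.Lib.PGroupFrattini

/-!
Abelian essential subgroups of rank at most two are homocyclic, elementary if `p ≥ 5`.
-/

set_option autoImplicit false

namespace Cfsg.Agent.Lib.FusionEssential

open Cfsg Cfsg.FusionSystem Cfsg.Agent.Lib.Fusion

section Abelian

variable {H : Type*} [CommGroup H] [Finite H] {p : ℕ} [Fact p.Prime]

/-- The elements killed by `p ^ i`. -/
def torsion (p : ℕ) (H : Type*) [CommGroup H] (i : ℕ) : Subgroup H := (powMonoidHom (p ^ i)).ker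

omit [Finite H] [Fact p.Prime] in
theorem mem_torsion {i : ℕ} {x : H} : x ∈ torsion p H i ↔ x ^ p ^ i = 1 := Iff.rfl

/-- Refinement of the torsion series by the preimages of `D ≤ H[p]`. -/
def refined (p : ℕ) (D : Subgroup H) (n : ℕ) : Subgroup H :=
  if n % 2 = 0 then torsion p H (n / 2) else D.comap (powMonoidHom (p ^ (n / 2)))

omit [Fact p.Prime] in
theorem refined_step {D : Subgroup H} (hD : D ≤ torsion p H 1) (hDp : Nat.card D ≤ p)
    (hVD : Nat.card (torsion p H 1) ≤ p * Nat.card D) (n : ℕ) :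
    refined p D n ≤ refined p D (n + 1) ∧
      Nat.card (refined p D (n + 1)) ≤ p * Nat.card (refined p D n) := by
  have key : ∀ (f : H →* H) (A : Subgroup H), Nat.card (A.comap f) ≤ Nat.card A * Nat.card f.ker := by
    intro f A
    have h1 := Subgroup.card_mul_index (f.comp (A.comap f).subtype).ker
    rw [Subgroup.index_ker] at h1
    rw [← h1, mul_comm]
    refine Nat.mul_le_mul (Subgroup.card_le_of_le ?_) ?_
    · rintro _ ⟨⟨x, hx⟩, rfl⟩; exact hx
    · exact Nat.card_le_card_of_injective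
        (fun z => (⟨((z : A.comap f) : H), z.2⟩ : f.ker))
        (fun a b h => Subtype.ext (Subtype.ext (congrArg (fun w : f.ker => (w : H)) h)))
  rcases Nat.even_or_odd' n with ⟨i, rfl | rfl⟩
  · rw [refined, if_pos (by omega), show 2 * i / 2 = i by omega, refined, if_neg (by omega),
      show (2 * i + 1) / 2 = i by omega]
    refine ⟨fun x hx => ?_, ?_⟩
    · show x ^ p ^ i ∈ D
      rw [mem_torsion.1 hx]
      exact one_mem D
    · exact (key _ D).trans (Nat.mul_le_mul_right _ hDp)
  · rw [refined, if_neg (by omega), show (2 * i + 1) / 2 = i by omega, refined, if_pos (by omega),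
      show (2 * i + 1 + 1) / 2 = i + 1 by omega]
    refine ⟨fun x hx => ?_, ?_⟩
    · have h : (x ^ p ^ i) ^ p ^ 1 = 1 := mem_torsion.1 (hD hx)
      rw [mem_torsion, pow_succ, pow_mul, ← h, pow_one]
    · -- compare the images under the `p ^ i`-th power
      set f : H →* H := powMonoidHom (p ^ i) with hf
      set V := torsion p H 1
      set T := torsion p H (i + 1)
      set T' := D.comap f with hT'
      have hTV : ∀ x ∈ T, f x ∈ V := fun x hx => by
        show (x ^ p ^ i) ^ p ^ 1 = 1
        rw [← pow_mul, pow_one, ← pow_succ]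
        exact hx
      have hT'T : T' ≤ T := fun x hx => by
        have h : (x ^ p ^ i) ^ p ^ 1 = 1 := mem_torsion.1 (hD hx)
        rw [mem_torsion, pow_succ, pow_mul, ← h, pow_one]
      let g : T →* H ⧸ D := (QuotientGroup.mk' D).comp (f.comp T.subtype)
      have hgk : g.ker = T'.subgroupOf T := by
        ext x
        simp [g, MonoidHom.mem_ker, Subgroup.mem_subgroupOf, hT']
      have hgr : g.range ≤ V.map (QuotientGroup.mk' D) := by
        rintro _ ⟨x, rfl⟩
        exact ⟨f x, hTV x x.2, rfl⟩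
      have h1 := Subgroup.card_mul_index g.ker
      rw [Subgroup.index_ker, hgk, Nat.card_congr (Subgroup.subgroupOfEquivOfLe hT'T).toEquiv] at h1
      rw [← h1, mul_comm]
      refine Nat.mul_le_mul_right _ ((Subgroup.card_le_of_le hgr).trans ?_)
      have h2 := Subgroup.card_mul_index ((QuotientGroup.mk' D).comp V.subtype).ker
      rw [Subgroup.index_ker, MonoidHom.range_comp, Subgroup.range_subtype] at h2
      have h3 : Nat.card ((QuotientGroup.mk' D).comp V.subtype).ker = Nat.card D := by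
        rw [← Nat.card_congr (Subgroup.subgroupOfEquivOfLe hD).toEquiv]
        congr 2
        ext x
        simp [MonoidHom.mem_ker, Subgroup.mem_subgroupOf]
      rw [h3] at h2
      rw [← h2, mul_comm p] at hVD
      exact Nat.le_of_mul_le_mul_left hVD Nat.card_pos

omit [Fact p.Prime] [Finite H] in
theorem refined_invariant {D : Subgroup H} (hD : ∀ (φ : MulAut H), ∀ x ∈ D, φ x ∈ D)
    (φ : MulAut H) (n : ℕ) (x : H) (hx : x ∈ refined p D n) : φ x ∈ refined p D n := by
  unfold refined at hx ⊢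
  split_ifs at hx ⊢
  · rw [mem_torsion] at hx ⊢
    rw [← map_pow, hx, map_one]
  · show (φ x) ^ p ^ (n / 2) ∈ D
    rw [← map_pow]
    exact hD φ _ hx

/-- A nontrivial invariant `p`-subgroup has a nontrivial fixed point. -/
theorem exists_fixed (hH : IsPGroup p H) {α : MulAut H} {m : ℕ} (hα : α ^ p ^ m = 1) {B : Subgroup H}
    (hB : ∀ x ∈ B, α x ∈ B) (hne : B ≠ ⊥) : ∃ y ∈ B, y ≠ 1 ∧ α y = y := by
  have hBz : ∀ γ ∈ Subgroup.zpowers α, ∀ x ∈ B, γ x ∈ B := by
    intro γ hγ
    obtain ⟨k, rfl⟩ := (mem_powers_iff_mem_zpowers (x := α)).2 hγ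
    intro x hx
    induction k with
    | zero => simpa using hx
    | succ k ih =>
      simp only at ih ⊢
      rw [pow_succ', MulAut.mul_apply]
      exact hB _ (ih (mem_powers_iff_mem_zpowers.1 ⟨k, rfl⟩))
  letI : MulAction (Subgroup.zpowers α) B :=
    { smul := fun γ x => ⟨(γ : MulAut H) x, hBz _ γ.2 _ x.2⟩
      one_smul := fun x => rfl
      mul_smul := fun γ δ x => rfl }
  have hZ : IsPGroup p (Subgroup.zpowers α) := by
    rintro ⟨γ, k, rfl⟩
    refine ⟨m, Subtype.ext ?_⟩
    show (α ^ k) ^ p ^ m = 1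
    rw [← zpow_natCast, zpow_comm, zpow_natCast, hα, one_zpow]
  obtain ⟨k, hk⟩ := IsPGroup.iff_card.1 (hH.to_subgroup B)
  have hk0 : k ≠ 0 := fun h => hne (Subgroup.card_eq_one.1 (by rw [hk, h, pow_zero]))
  have h1 : (1 : B) ∈ MulAction.fixedPoints (Subgroup.zpowers α) B := fun g =>
    Subtype.ext (map_one (g : MulAut H))
  obtain ⟨b, hb, hb1⟩ := hZ.exists_fixed_point_of_prime_dvd_card_of_fixed_point B
    (hk ▸ dvd_pow_self p hk0) h1
  exact ⟨b, b.2, fun h => hb1 (Subtype.ext h).symm, congrArg Subtype.val (hb ⟨α, Subgroup.mem_zpowers α⟩)⟩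

/-- An automorphism of order `p` of a homocyclic group of exponent at least `p ^ 2` is trivial on the socle. -/
theorem eq_on_socle (hp : 5 ≤ p) (hH : IsPGroup p H) (hV : Nat.card (torsion p H 1) ≤ p ^ 2)
    (hsurj : ∀ x ∈ torsion p H 1, ∃ h : H, h ^ p = x) {α : MulAut H} (hα : α ^ p = 1) :
    ∀ x ∈ torsion p H 1, α x = x := by
  have hpr := (Fact.out : p.Prime)
  set V := torsion p H 1 with hVdef
  have hmemV : ∀ x : H, x ∈ V ↔ x ^ p = 1 := fun x => by rw [hVdef, mem_torsion, pow_one]
  have hαV : ∀ x ∈ V, α x ∈ V := fun x hx => by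
    rw [hmemV] at hx ⊢; rw [← map_pow, hx, map_one]
  let d : H →* H := MonoidHom.mk' (fun x => x⁻¹ * α x) fun a b => by
    rw [map_mul, mul_inv, mul_mul_mul_comm]
  have hd : ∀ x, α x = x * d x := fun x => (mul_inv_cancel_left x (α x)).symm
  have hdd : ∀ x ∈ V, d (d x) = 1 := by
    intro x hxV
    set B := V.map d with hB
    have hBV : B ≤ V := by
      rintro _ ⟨y, hy, rfl⟩
      exact mul_mem (inv_mem hy) (hαV y hy)
    have hBα : ∀ y ∈ B, α y ∈ B := by
      rintro _ ⟨y, hy, rfl⟩
      refine ⟨α y, hαV y hy, ?_⟩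
      show (α y)⁻¹ * α (α y) = α (y⁻¹ * α y)
      rw [map_mul, map_inv]
    by_cases hB1 : B = ⊥
    · have h : d x = 1 := Subgroup.mem_bot.1 (hB1 ▸ ⟨x, hxV, rfl⟩)
      rw [h, map_one]
    obtain ⟨y, hyB, hy1, hyf⟩ := exists_fixed hH (m := 1) (by rw [pow_one, hα]) hBα hB1
    obtain ⟨z, hzV, hz1, hzf⟩ := exists_fixed hH (m := 1) (by rw [pow_one, hα]) hαV
      (fun h => hB1 (le_bot_iff.1 (h ▸ hBV)))
    -- the image has order `p`
    have hcard : Nat.card B ≤ p := by
      have h1 := Subgroup.card_mul_index (d.comp V.subtype).ker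
      rw [Subgroup.index_ker, MonoidHom.range_comp, Subgroup.range_subtype, ← hB] at h1
      have hk : p ≤ Nat.card (d.comp V.subtype).ker := by
        obtain ⟨k, hk⟩ := IsPGroup.iff_card.1 (((hH.to_subgroup V)).to_subgroup (d.comp V.subtype).ker)
        rw [hk]
        refine Nat.le_self_pow (fun h => hz1 ?_) p
        have hb : (d.comp V.subtype).ker = ⊥ := Subgroup.card_eq_one.1 (by rw [hk, h, pow_zero])
        have hm : (⟨z, hzV⟩ : V) ∈ (d.comp V.subtype).ker := by
          show z⁻¹ * α z = 1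
          rw [hzf, inv_mul_cancel]
        rw [hb, Subgroup.mem_bot] at hm
        exact congrArg Subtype.val hm
      have h2 : p * Nat.card B ≤ p * p := by
        calc p * Nat.card B ≤ Nat.card (d.comp V.subtype).ker * Nat.card B := Nat.mul_le_mul_right _ hk
          _ = Nat.card V := h1
          _ ≤ p ^ 2 := hV
          _ = p * p := sq p
      exact Nat.le_of_mul_le_mul_left h2 hpr.pos
    have hBy : B = Subgroup.zpowers y := by
      refine (Subgroup.eq_of_le_of_card_ge (Subgroup.zpowers_le.2 hyB) ?_).symm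
      rw [Nat.card_zpowers, orderOf_eq_prime ((hmemV y).1 (hBV hyB)) hy1]
      exact hcard
    obtain ⟨k, hk⟩ := hBy.le (⟨x, hxV, rfl⟩ : d x ∈ B)
    simp only at hk
    rw [← hk, map_zpow, show d y = 1 by show y⁻¹ * α y = 1; rw [hyf, inv_mul_cancel], one_zpow]
  intro x hx
  obtain ⟨h, rfl⟩ := hsurj x hx
  set a := d h
  set b := d a with hb
  set c := d b with hc
  have hbV : b ∈ V := by
    rw [hmemV, hb, ← map_pow, ← map_pow]
    exact hdd _ hx
  have hcV : c ∈ V := by
    rw [hc]; exact mul_mem (inv_mem hbV) (hαV b hbV)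
  have hcf : α c = c := by rw [hd, hc, hdd b hbV, mul_one]
  have hpow : ∀ n : ℕ, (α ^ n) h = h * a ^ n * b ^ n.choose 2 * c ^ n.choose 3 := by
    intro n
    induction n with
    | zero => simp
    | succ n ih =>
      rw [pow_succ', MulAut.mul_apply, ih, map_mul, map_mul, map_mul, map_pow, map_pow, map_pow, hcf, hd h, hd a,
        hd b, ← hb, ← hc, show d h = a from rfl, Nat.choose_succ_succ' n 1, Nat.choose_succ_succ' n 2,
        Nat.choose_one_right, mul_pow, mul_pow, pow_add, pow_add, pow_succ]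
      simp [pow_add, mul_assoc, mul_comm, mul_left_comm]
  have h1 := hpow p
  obtain ⟨q2, hq2⟩ := hpr.dvd_choose_self (k := 2) two_ne_zero (by omega)
  obtain ⟨q3, hq3⟩ := hpr.dvd_choose_self (k := 3) (by norm_num) (by omega)
  rw [hα, MulAut.one_apply, hq2, hq3, pow_mul b, pow_mul c, (hmemV b).1 hbV, (hmemV c).1 hcV, one_pow, one_pow,
    mul_one, mul_one, left_eq_mul] at h1
  rw [hd, map_pow, show d h = a from rfl, h1, mul_one]

/-- Homocyclic of rank two. -/
theorem exists_equiv_of_homocyclic {k : ℕ} (hk : ∀ x : H, x ^ p ^ (k + 1) = 1)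
    (hV : Nat.card (torsion p H 1) ≤ p ^ 2) {a b : H}
    (hind : ∀ i j : ℤ, (a ^ p ^ k) ^ i * (b ^ p ^ k) ^ j = 1 → (p : ℤ) ∣ i ∧ (p : ℤ) ∣ j) :
    Nonempty (H ≃* Multiplicative (ZMod (p ^ (k + 1)) × ZMod (p ^ (k + 1)))) := by
  have hpr := (Fact.out : p.Prime)
  have hcardle : ∀ i, Nat.card (torsion p H i) ≤ p ^ (2 * i) := by
    intro i
    induction i with
    | zero =>
      have h : torsion p H 0 = ⊥ := (Subgroup.eq_bot_iff_forall _).2 fun x hx => by simpa [mem_torsion] using hx
      rw [h, Subgroup.card_bot]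
      simp
    | succ i ih =>
      let f : torsion p H (i + 1) →* H := (powMonoidHom p).comp (torsion p H (i + 1)).subtype
      have h1 := Subgroup.card_mul_index f.ker
      rw [Subgroup.index_ker] at h1
      rw [← h1, show 2 * (i + 1) = 2 + 2 * i by ring, pow_add]
      refine Nat.mul_le_mul ((Nat.card_le_card_of_injective
        (fun z : f.ker => (⟨((z : torsion p H (i + 1)) : H), by
          rw [mem_torsion, pow_one]; exact MonoidHom.mem_ker.1 z.2⟩ : torsion p H 1))
        (fun u v h => Subtype.ext (Subtype.ext (congrArg (fun w : torsion p H 1 => (w : H)) h)))).trans hV)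
        ((Subgroup.card_le_of_le ?_).trans ih)
      rintro _ ⟨z, rfl⟩
      show ((z : H) ^ p) ^ p ^ i = 1
      rw [← pow_mul, ← pow_succ']
      exact z.2
  set N := p ^ (k + 1) with hN
  have : NeZero N := ⟨(pow_pos hpr.pos _).ne'⟩
  have hmod : ∀ (x : H) (i j : ℤ), ((i : ZMod N) = (j : ZMod N)) → x ^ i = x ^ j := by
    intro x i j h
    obtain ⟨t, ht⟩ := (ZMod.intCast_eq_intCast_iff_dvd_sub i j N).1 h
    rw [show j = i + (N : ℤ) * t by omega, zpow_add, zpow_mul, zpow_natCast, hk, one_zpow, mul_one]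
  let g : Multiplicative (ZMod N × ZMod N) →* H := MonoidHom.mk'
    (fun v => a ^ ((Multiplicative.toAdd v).1.val : ℤ) * b ^ ((Multiplicative.toAdd v).2.val : ℤ)) fun u v => by
      rw [show a ^ ((Multiplicative.toAdd (u * v)).1.val : ℤ) =
          a ^ (((Multiplicative.toAdd u).1.val : ℤ) + (Multiplicative.toAdd v).1.val) from hmod a _ _ (by simp),
        show b ^ ((Multiplicative.toAdd (u * v)).2.val : ℤ) =
          b ^ (((Multiplicative.toAdd u).2.val : ℤ) + (Multiplicative.toAdd v).2.val) from hmod b _ _ (by simp),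
        zpow_add, zpow_add, mul_mul_mul_comm]
  have hinj : Function.Injective g := by
    refine (injective_iff_map_eq_one g).2 fun v hv => ?_
    set i : ℤ := ((Multiplicative.toAdd v).1.val : ℤ) with hi
    set j : ℤ := ((Multiplicative.toAdd v).2.val : ℤ) with hj
    have key : ∀ m : ℕ, m ≤ k + 1 → (p : ℤ) ^ m ∣ i ∧ (p : ℤ) ^ m ∣ j := by
      intro m
      induction m with
      | zero => simp
      | succ m ih =>
        intro hm
        obtain ⟨⟨i', hi'⟩, ⟨j', hj'⟩⟩ := ih (by omega)
        have h1 : (a ^ i * b ^ j) ^ ((p : ℤ) ^ (k - m)) = 1 := by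
          rw [show a ^ i * b ^ j = 1 from hv, one_zpow]
        rw [mul_zpow, ← zpow_mul, ← zpow_mul, hi', hj'] at h1
        have e : ∀ z : ℤ, (p : ℤ) ^ m * z * (p : ℤ) ^ (k - m) = ((p ^ k : ℕ) : ℤ) * z := fun z => by
          push_cast
          rw [mul_comm ((p : ℤ) ^ m * z), ← mul_assoc, ← pow_add, show k - m + m = k by omega]
        rw [e, e, zpow_mul, zpow_mul, zpow_natCast, zpow_natCast] at h1
        obtain ⟨hi'', hj''⟩ := hind i' j' h1
        rw [hi', hj', pow_succ]
        exact ⟨mul_dvd_mul_left _ hi'', mul_dvd_mul_left _ hj''⟩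
    obtain ⟨hi1, hj1⟩ := key (k + 1) le_rfl
    have zero_of : ∀ z : ZMod N, (p : ℤ) ^ (k + 1) ∣ (z.val : ℤ) → z = 0 := fun z hz => by
      have h2 : N ∣ z.val := by
        exact_mod_cast hz
      exact (ZMod.val_eq_zero z).1 (Nat.eq_zero_of_dvd_of_lt h2 z.val_lt)
    exact Multiplicative.toAdd.injective (Prod.ext (zero_of _ hi1) (zero_of _ hj1))
  refine ⟨(MulEquiv.ofBijective g (hinj.bijective_of_nat_card_le ?_)).symm⟩
  have htop : torsion p H (k + 1) = ⊤ := eq_top_iff.2 fun x _ => hk x
  have h := hcardle (k + 1)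
  rw [htop, Subgroup.card_top] at h
  refine h.trans (le_of_eq ?_)
  rw [Nat.card_congr Multiplicative.toAdd, Nat.card_prod, Nat.card_zmod, hN, ← pow_add]
  congr 1
  omega

omit [Finite H] in
theorem card_socle_le [Finite H] (hH : IsPGroup p H) (hfr : (frattini H).index ≤ p ^ 2) :
    Nat.card (torsion p H 1) ≤ p ^ 2 := by
  set f : H →* H := powMonoidHom p
  have hk : torsion p H 1 = f.ker := by ext x; simp [torsion, f]
  have h1 := Subgroup.card_mul_index f.ker
  rw [Subgroup.index_ker] at h1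
  have h2 := Subgroup.card_mul_index f.range
  have hle : frattini H ≤ f.range := by
    refine Cfsg.Agent.Lib.PGroupFrattini.frattini_le (Fact.out : p.Prime) _ ?_ fun x => ⟨x, rfl⟩
    rw [commutator_def, Subgroup.commutator_le]
    intro a _ b _
    rw [commutatorElement_eq_one_iff_mul_comm.2 (mul_comm a b)]
    exact one_mem _
  have hge : f.range ≤ frattini H := by
    rintro _ ⟨x, rfl⟩
    exact Cfsg.Agent.Lib.PGroupFrattini.pow_mem_frattini hH x
  rw [le_antisymm hge hle] at h1 h2
  rw [hk]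
  refine le_trans (le_of_eq ?_) hfr
  have hpos : 0 < Nat.card (frattini H) := Nat.card_pos
  exact Nat.eq_of_mul_eq_mul_left hpos (by rw [h2, ← h1, mul_comm])

/-- An automorphism of order prime to `p` fixing the socle is trivial. -/
theorem eq_one_of_fix_socle (hH : IsPGroup p H) {β : MulAut H} {q : ℕ} (hq : q.Coprime p) (hβq : β ^ q = 1)
    (hfix : ∀ x ∈ torsion p H 1, β x = x) : β = 1 := by
  have key : ∀ m : ℕ, ∀ x : H, x ^ p ^ m = 1 → β x = x := by
    intro m
    induction m with
    | zero => intro x hx; rw [pow_zero, pow_one] at hx; rw [hx, map_one]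
    | succ m ih =>
      intro x hx
      have hxp : β (x ^ p) = x ^ p := ih _ (by rw [← pow_mul, ← pow_succ']; exact hx)
      set l := x⁻¹ * β x with hl
      have hlV : l ∈ torsion p H 1 := by
        rw [mem_torsion, pow_one, hl, mul_pow, inv_pow, ← map_pow, hxp, inv_mul_cancel]
      have hlfix : β l = l := hfix l hlV
      have hpow : ∀ n : ℕ, (β ^ n) x = x * l ^ n := by
        intro n
        induction n with
        | zero => simp
        | succ n ihn => rw [pow_succ', MulAut.mul_apply, ihn, map_mul, map_pow, hlfix, pow_succ', ← mul_assoc,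
            show β x = x * l by rw [hl, mul_inv_cancel_left]]
      have h1 := hpow q
      rw [hβq, MulAut.one_apply, left_eq_mul] at h1
      have hdvd : orderOf l ∣ 1 := by
        rw [← hq]
        refine Nat.dvd_gcd (orderOf_dvd_of_pow_eq_one h1) (orderOf_dvd_of_pow_eq_one ?_)
        rw [mem_torsion, pow_one] at hlV
        exact hlV
      rw [show β x = x * l by rw [hl, mul_inv_cancel_left], orderOf_eq_one_iff.1 (Nat.dvd_one.1 hdvd), mul_one]
  refine MulEquiv.ext fun x => ?_
  obtain ⟨m, hm⟩ := hH x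
  exact key m x hm

end Abelian

end Cfsg.Agent.Lib.FusionEssential
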