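import Cfsg.Agent.Lib.Fusion.Normal

/-!
A subgroup with a characteristic chain of index `p` is not essential.
-/

set_option autoImplicit false

namespace Cfsg.Agent.Lib.FusionEssential

open Cfsg Cfsg.FusionSystem Cfsg.Agent.Lib.Fusion

section Stab

variable {P : Type*} [Group P]

/-- The automorphisms in `A` acting trivially on the factors of the chain. -/
def chainStab (A : Subgroup (MulAut P)) (L : ℕ → Subgroup P)
    (hinv : ∀ (α : MulAut P), α ∈ A → ∀ (i : ℕ) (x : P), x ∈ L i → α x ∈ L i) : Subgroup A where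
  carrier := {α | ∀ (i : ℕ) (x : P), x ∈ L (i + 1) → x⁻¹ * (α : MulAut P) x ∈ L i}
  one_mem' := fun i x _ => by simp
  mul_mem' := by
    intro a b ha hb i x hx
    show x⁻¹ * (a : MulAut P) ((b : MulAut P) x) ∈ L i
    have e : x⁻¹ * (a : MulAut P) ((b : MulAut P) x) =
        (x⁻¹ * (a : MulAut P) x) * (a : MulAut P) (x⁻¹ * (b : MulAut P) x) := by
      rw [map_mul, map_inv]; group
    rw [e]
    exact mul_mem (ha i x hx) (hinv _ a.2 i _ (hb i x hx))
  inv_mem' := by
    intro a ha i x hx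
    show x⁻¹ * ((a : MulAut P)⁻¹) x ∈ L i
    have e : x⁻¹ * ((a : MulAut P)⁻¹) x = ((a : MulAut P)⁻¹) ((x⁻¹ * (a : MulAut P) x)⁻¹) := by
      rw [mul_inv_rev, inv_inv, map_mul, map_inv, MulAut.inv_apply_self]
    rw [e]
    exact hinv _ (inv_mem a.2) i _ (inv_mem (ha i x hx))

variable {A : Subgroup (MulAut P)} {L : ℕ → Subgroup P}
  (hinv : ∀ (α : MulAut P), α ∈ A → ∀ (i : ℕ) (x : P), x ∈ L i → α x ∈ L i)

theorem mem_chainStab {α : A} :
    α ∈ chainStab A L hinv ↔ ∀ (i : ℕ) (x : P), x ∈ L (i + 1) → x⁻¹ * (α : MulAut P) x ∈ L i := Iff.rfl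

theorem chainStab_normal : (chainStab A L hinv).Normal := by
  refine ⟨fun a ha b i x hx => ?_⟩
  show x⁻¹ * (b : MulAut P) ((a : MulAut P) ((b : MulAut P)⁻¹ x)) ∈ L i
  set y := (b : MulAut P)⁻¹ x with hy
  have h := hinv _ b.2 i _ (ha i y (hinv _ (inv_mem b.2) _ _ hx))
  rwa [map_mul, map_inv, hy, MulAut.apply_inv_self] at h

variable {p : ℕ} [Fact p.Prime] [Finite P]

theorem isPGroup_chainStab (hP : IsPGroup p P) {k : ℕ} (hk : L k = ⊤) (h0 : L 0 = ⊥) :
    IsPGroup p (chainStab A L hinv) := by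
  have : Finite (MulAut P) :=
    Finite.of_injective (fun α : MulAut P => (α : P → P)) DFunLike.coe_injective
  refine IsPGroup.of_card (n := (Nat.card (chainStab A L hinv)).primeFactorsList.length)
    (Nat.eq_prime_pow_of_unique_prime_dvd Nat.card_pos.ne' fun {q} hq hqd => ?_)
  have := Fact.mk hq
  obtain ⟨α, hα⟩ := exists_prime_orderOf_dvd_card' q hqd
  by_contra hne
  have hfix : ∀ (i : ℕ) (x : P), x ∈ L i → ((α : A) : MulAut P) x = x := by
    intro i
    induction i with
    | zero =>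
      intro x hx
      rw [h0, Subgroup.mem_bot] at hx
      rw [hx, map_one]
    | succ i ih =>
      intro x hx
      set β := ((α : A) : MulAut P) with hβ
      set l := x⁻¹ * β x with hl
      have hlfix : β l = l := ih l (α.2 i x hx)
      have hpow : ∀ n : ℕ, (β ^ n) x = x * l ^ n := by
        intro n
        induction n with
        | zero => simp
        | succ n ihn => rw [pow_succ', MulAut.mul_apply, ihn, map_mul, map_pow, hlfix, pow_succ', ← mul_assoc,
            show β x = x * l by rw [hl, mul_inv_cancel_left]]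
      have hβq : β ^ q = 1 := by
        rw [hβ, ← Subgroup.coe_pow, ← Subgroup.coe_pow, ← hα, pow_orderOf_eq_one]; rfl
      have h1 := hpow q
      rw [hβq, MulAut.one_apply, left_eq_mul] at h1
      obtain ⟨m, hm⟩ := hP l
      have hdvd : orderOf l ∣ 1 := by
        rw [← ((Nat.coprime_primes hq Fact.out).2 hne).pow_right m]
        exact Nat.dvd_gcd (orderOf_dvd_of_pow_eq_one h1) (orderOf_dvd_of_pow_eq_one hm)
      have : l = 1 := orderOf_eq_one_iff.1 (Nat.dvd_one.1 hdvd)
      rw [show β x = x * l by rw [hl, mul_inv_cancel_left], this, mul_one]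
  have h1 : α = 1 := by
    apply Subtype.ext
    apply Subtype.ext
    apply MulEquiv.ext
    intro x
    exact hfix k x (hk ▸ Subgroup.mem_top x)
  rw [h1, orderOf_one] at hα
  exact hq.one_lt.ne hα

theorem mem_chainStab_of_pow (hP : IsPGroup p P) (hN : ∀ i, (L i).Normal)
    (hcard : ∀ i, Nat.card (L (i + 1)) ≤ p * Nat.card (L i)) (hmono : ∀ i, L i ≤ L (i + 1))
    {α : A} {m : ℕ} (hα : α ^ p ^ m = 1) : α ∈ chainStab A L hinv := by
  intro i x hx
  have := hN i
  set θ := QuotientGroup.mk' (L i) with hθ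
  rw [← QuotientGroup.eq_one_iff]
  show θ (x⁻¹ * (α : MulAut P) x) = 1
  rw [map_mul, map_inv, inv_mul_eq_one]
  set y := θ x with hy
  by_cases hy1 : y = 1
  · rw [hy1]
    exact ((QuotientGroup.eq_one_iff _).2 (hinv _ α.2 i x ((QuotientGroup.eq_one_iff x).1 hy1))).symm
  set T := (L (i + 1)).map θ with hT
  have hTp : Nat.card T ≤ p := by
    have h : Nat.card T * Nat.card (L i) = Nat.card (L (i + 1)) := by
      have hr : (θ.comp (L (i + 1)).subtype).range = T := by
        rw [MonoidHom.range_comp, Subgroup.range_subtype]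
      have hk : (θ.comp (L (i + 1)).subtype).ker = (L i).subgroupOf (L (i + 1)) := by
        ext z
        simp [MonoidHom.mem_ker, Subgroup.mem_subgroupOf, hθ]
      have h1 := Subgroup.card_mul_index (θ.comp (L (i + 1)).subtype).ker
      rw [Subgroup.index_ker, hr, hk, Nat.card_congr (Subgroup.subgroupOfEquivOfLe (hmono i)).toEquiv] at h1
      rw [mul_comm]; exact h1
    have hpos : 0 < Nat.card (L i) := Nat.card_pos
    exact Nat.le_of_mul_le_mul_right (h.trans_le (hcard i)) hpos
  have hyT : y ∈ T := ⟨x, hx, rfl⟩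
  have hord : orderOf y = p := by
    obtain ⟨n, hn⟩ := IsPGroup.iff_orderOf.1 (hP.to_quotient (L i)) y
    have hle : orderOf y ≤ p := by
      refine le_trans ?_ hTp
      rw [← Nat.card_zpowers]
      exact Subgroup.card_le_of_le (Subgroup.zpowers_le.2 hyT)
    rw [hn]
    rcases n with _ | n
    · exact absurd (orderOf_eq_one_iff.1 (hn.trans (pow_zero p))) hy1
    · have : n = 0 := by
        by_contra h
        have h1 : p ^ 1 < p ^ (n + 1) := Nat.pow_lt_pow_right (Fact.out : p.Prime).one_lt (by omega)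
        rw [← hn, pow_one] at h1
        omega
      rw [this, zero_add, pow_one]
  have hTz : T = Subgroup.zpowers y := by
    refine (Subgroup.eq_of_le_of_card_ge (Subgroup.zpowers_le.2 hyT) ?_).symm
    rw [Nat.card_zpowers, hord]
    exact hTp
  have hαy : θ ((α : MulAut P) x) ∈ Subgroup.zpowers y := hTz ▸ ⟨_, hinv _ α.2 _ x hx, rfl⟩
  obtain ⟨j, hj⟩ := hαy
  have hn : ∀ n : ℕ, θ (((α : MulAut P) ^ n) x) = y ^ j ^ n := by
    intro n
    induction n with
    | zero => simp [hy]
    | succ n ih =>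
      rw [pow_succ', MulAut.mul_apply]
      have e : θ (((α : MulAut P) ^ n) x) = θ (x ^ (j ^ n)) := by rw [ih, map_zpow]
      have e' : θ ((α : MulAut P) (((α : MulAut P) ^ n) x)) = θ ((α : MulAut P) (x ^ (j ^ n))) := by
        rw [hθ, QuotientGroup.mk'_apply, QuotientGroup.mk'_apply, QuotientGroup.eq] at e ⊢
        rw [← map_inv, ← map_mul]
        exact hinv _ α.2 i _ e
      rw [e', map_zpow, map_zpow, ← hj, ← zpow_mul, pow_succ']
  have h1 := hn (p ^ m)
  rw [← Subgroup.coe_pow, hα, Subgroup.coe_one, MulAut.one_apply, ← hy] at h1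
  have h2 : (p : ℤ) ∣ j ^ p ^ m - 1 := by
    rw [show (p : ℤ) = (orderOf y : ℤ) by rw [hord]]
    refine orderOf_dvd_iff_zpow_eq_one.2 ?_
    rw [zpow_sub, ← h1, zpow_one, mul_inv_cancel]
  have h3 : ((j : ZMod p)) = 1 := by
    have h4 := (ZMod.intCast_zmod_eq_zero_iff_dvd _ _).2 h2
    push_cast at h4
    rwa [sub_eq_zero, ZMod.pow_card_pow] at h4
  have h5 : (p : ℤ) ∣ j - 1 := by
    rw [← ZMod.intCast_zmod_eq_zero_iff_dvd]
    push_cast
    rw [h3, sub_self]
  have h6 : y ^ (j - 1) = 1 := orderOf_dvd_iff_zpow_eq_one.1 (hord ▸ h5)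
  rw [zpow_sub, zpow_one, mul_inv_eq_one] at h6
  exact (h6.symm.trans hj)

end Stab

variable {Ω : Type*} [Group Ω] {S : Subgroup Ω} [Finite S] {F : FusionSystem S} {p : ℕ} [Fact p.Prime]

/-- An element of `p`-power order of the automizer outside the inner automorphisms exists. -/
theorem exists_pPower_not_inn (hS : IsPGroup p S) {P : Subgroup Ω} (hP : F.IsEssential p P) :
    ∃ α : F.autGroup P, (∃ m : ℕ, α ^ p ^ m = 1) ∧ (α : MulAut P) ∉ Inn P := by
  obtain ⟨hc, -, hN, E, hpE, -⟩ := hP
  have := finite_mulAut hc.1 (S := S)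
  by_contra h
  push Not at h
  set I := (Inn P).subgroupOf (F.autGroup P) with hI
  obtain ⟨Sy⟩ : Nonempty (Sylow p (F.autGroup P)) := inferInstance
  have hle : (Sy : Subgroup (F.autGroup P)) ≤ I := fun α hα => by
    obtain ⟨m, hm⟩ := Sy.2 ⟨α, hα⟩
    exact h α ⟨m, congrArg Subtype.val hm⟩
  have hd : I.index ∣ (Sy : Subgroup (F.autGroup P)).index := Subgroup.index_dvd_of_le hle
  refine Sy.not_dvd_index (dvd_trans ?_ hd)
  rw [Subgroup.index_eq_card]
  exact hpE

/-- A subgroup with an invariant chain with factors of order at most `p` is not essential. -/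
theorem not_essential_of_chain (hS : IsPGroup p S) {P : Subgroup Ω} (hP : F.IsEssential p P)
    (L : ℕ → Subgroup P) (hinv : ∀ α ∈ F.autGroup P, ∀ (i : ℕ) (x : P), x ∈ L i → α x ∈ L i)
    (hN : ∀ i, (L i).Normal) (hcard : ∀ i, Nat.card (L (i + 1)) ≤ p * Nat.card (L i))
    (hmono : ∀ i, L i ≤ L (i + 1)) {k : ℕ} (hk : L k = ⊤) (h0 : L 0 = ⊥) : False := by
  have hPS := hP.1.1
  have := finite_of_le hPS
  have hPp : IsPGroup p P := hS.to_le hPS
  obtain ⟨α, ⟨m, hm⟩, hα⟩ := exists_pPower_not_inn hS hP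
  exact hα (mem_inn_of_radical (isRadical_of_essential hS hP) (chainStab_normal hinv)
    (isPGroup_chainStab hinv hPp hk h0) (mem_chainStab_of_pow hinv hPp hN hcard hmono hm))

/-- A characteristic chain of length three. -/
theorem not_essential_of_three (hS : IsPGroup p S) {P : Subgroup Ω} (hP : F.IsEssential p P)
    (K M : Subgroup P) (hK : K.Characteristic) (hM : M.Characteristic) (hKM : K ≤ M)
    (h1 : Nat.card K ≤ p) (h2 : Nat.card M ≤ p * Nat.card K) (h3 : Nat.card P ≤ p * Nat.card M) : False := by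
  have hinvK : ∀ (α : MulAut P) (x : P), x ∈ K → α x ∈ K := fun α x hx =>
    (Subgroup.characteristic_iff_map_le.1 hK α) ⟨x, hx, rfl⟩
  have hinvM : ∀ (α : MulAut P) (x : P), x ∈ M → α x ∈ M := fun α x hx =>
    (Subgroup.characteristic_iff_map_le.1 hM α) ⟨x, hx, rfl⟩
  let L : ℕ → Subgroup P := fun i => match i with
    | 0 => ⊥
    | 1 => K
    | 2 => M
    | _ => ⊤
  refine not_essential_of_chain hS hP L ?_ ?_ ?_ ?_ (k := 3) rfl rfl
  · intro α _ i x hx
    match i with
    | 0 => rw [Subgroup.mem_bot.1 hx, map_one]; exact one_mem _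
    | 1 => exact hinvK α x hx
    | 2 => exact hinvM α x hx
    | _ + 3 => exact Subgroup.mem_top _
  · intro i
    match i with
    | 0 => exact inferInstanceAs ((⊥ : Subgroup P).Normal)
    | 1 => exact inferInstanceAs K.Normal
    | 2 => exact inferInstanceAs M.Normal
    | _ + 3 => exact inferInstanceAs ((⊤ : Subgroup P).Normal)
  · have hp1 : 1 ≤ p := (Fact.out : p.Prime).one_le
    intro i
    match i with
    | 0 => simpa [L] using h1
    | 1 => exact h2
    | 2 => simpa [L, Subgroup.card_top] using h3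
    | _ + 3 => exact Nat.le_mul_of_pos_left _ hp1
  · intro i
    match i with
    | 0 => exact bot_le
    | 1 => exact hKM
    | 2 => exact le_top
    | _ + 3 => exact le_rfl

end Cfsg.Agent.Lib.FusionEssential
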