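import Cfsg.Agent.Lib.FusionEssential.Flag
import Cfsg.Agent.Lib.Thompson.PGroup
import Cfsg.Agent.Lib.PGroupFrattini
import Cfsg.Agent.Lib.UniqueInvolution

/-!
Groups of order `p ^ 3`: either one of the three exceptional types, or a characteristic chain exists.
-/

set_option autoImplicit false

namespace Cfsg.Agent.Lib.FusionEssential

open Cfsg
open scoped commutatorElement

variable {P : Type*} [Group P] {p : ℕ}

/-- A characteristic chain with all factors of order at most `p`. -/
def HasChain (p : ℕ) (P : Type*) [Group P] : Prop :=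
  ∃ K M : Subgroup P, K.Characteristic ∧ M.Characteristic ∧ K ≤ M ∧ Nat.card K ≤ p ∧
    Nat.card M ≤ p * Nat.card K ∧ Nat.card P ≤ p * Nat.card M

theorem char_ker_of_pow (f : P →* P) {n : ℕ} (hf : ∀ x, f x = x ^ n) : f.ker.Characteristic := by
  refine Subgroup.characteristic_iff_le_comap.2 fun φ x hx => ?_
  rw [MonoidHom.mem_ker, hf] at hx
  show φ.toMonoidHom x ∈ f.ker
  rw [MonoidHom.mem_ker, hf, ← map_pow, hx, map_one]

theorem char_range_of_pow (f : P →* P) {n : ℕ} (hf : ∀ x, f x = x ^ n) : f.range.Characteristic := by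
  refine Subgroup.characteristic_iff_le_comap.2 fun φ x hx => ?_
  obtain ⟨y, rfl⟩ := hx
  exact ⟨φ.toMonoidHom y, by rw [hf, hf, map_pow]⟩

variable [Finite P] [Fact p.Prime]

/-- If the `p`-th power map is a nontrivial homomorphism, its kernel and image give a chain. -/
theorem chain_of_powHom (hP : IsPGroup p P) (hcard : Nat.card P = p ^ 3) (f : P →* P)
    (hf : ∀ x, f x = x ^ p) (hne : ¬ ∀ x : P, x ^ p = 1) : HasChain p P := by
  have hp := (Fact.out : p.Prime)
  have hmul : Nat.card f.ker * Nat.card f.range = p ^ 3 := by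
    rw [← Subgroup.index_ker, Subgroup.card_mul_index, hcard]
  obtain ⟨i, hi⟩ := IsPGroup.iff_card.1 (hP.to_subgroup f.ker)
  obtain ⟨j, hj⟩ := IsPGroup.iff_card.1 (hP.to_subgroup f.range)
  rw [hi, hj, ← pow_add] at hmul
  have hij : i + j = 3 := Nat.pow_right_injective hp.two_le hmul
  -- the kernel is nontrivial
  have hker : ∀ H : Subgroup P, H ≠ ⊥ → ∃ z ∈ H, z ≠ 1 ∧ f z = 1 := by
    intro H hH
    obtain ⟨k, hk⟩ := IsPGroup.iff_card.1 (hP.to_subgroup H)
    have hk0 : k ≠ 0 := fun h => hH (Subgroup.card_eq_one.1 (by rw [hk, h, pow_zero]))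
    obtain ⟨z, hz⟩ := exists_prime_orderOf_dvd_card' (G := H) p (hk ▸ dvd_pow_self p hk0)
    refine ⟨z, z.2, fun h => hp.one_lt.ne ?_, ?_⟩
    · rw [← hz, ← Subgroup.orderOf_coe, h, orderOf_one]
    · rw [hf, ← hz, ← Subgroup.orderOf_coe, pow_orderOf_eq_one]
  have hrne : f.range ≠ ⊥ := fun h => hne fun x => by
    rw [← hf]; exact Subgroup.mem_bot.1 (h ▸ ⟨x, rfl⟩)
  have hj0 : j ≠ 0 := fun h => hrne (Subgroup.card_eq_one.1 (by rw [hj, h, pow_zero]))
  have hi0 : i ≠ 0 := fun h => by
    obtain ⟨z, -, hz1, hz⟩ := hker f.range hrne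
    have hb : f.ker = ⊥ := Subgroup.card_eq_one.1 (by rw [hi, h, pow_zero])
    exact hz1 (Subgroup.mem_bot.1 (hb ▸ (MonoidHom.mem_ker.2 hz)))
  by_cases h1 : i = 1
  · have hj2 : j = 2 := by omega
    have hK : Nat.card f.ker = p := by rw [hi, h1, pow_one]
    have hle : f.ker ≤ f.range := by
      obtain ⟨z, hzr, hz1, hz⟩ := hker f.range hrne
      have hzk : z ∈ f.ker := MonoidHom.mem_ker.2 hz
      have : Subgroup.zpowers z = f.ker := by
        refine Subgroup.eq_of_le_of_card_ge (Subgroup.zpowers_le.2 hzk) ?_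
        rw [hK, Nat.card_zpowers]
        obtain ⟨k, hk⟩ := IsPGroup.iff_orderOf.1 hP z
        rw [hk]
        exact Nat.le_self_pow (fun h => hz1 (orderOf_eq_one_iff.1 (by rw [hk, h, pow_zero]))) p
      rw [← this, Subgroup.zpowers_le]
      exact hzr
    refine ⟨f.ker, f.range, char_ker_of_pow f hf, char_range_of_pow f hf, hle, hK.le, ?_, ?_⟩
    · rw [hK, hj, hj2, sq]
    · rw [hcard, hj, hj2, ← pow_succ']
  · have hj1 : j = 1 := by omega
    have hi2 : i = 2 := by omega
    have hR : Nat.card f.range = p := by rw [hj, hj1, pow_one]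
    have hle : f.range ≤ f.ker := fun z hz => by
      rw [MonoidHom.mem_ker, hf, ← hR]
      exact congrArg Subtype.val (pow_card_eq_one' (x := (⟨z, hz⟩ : f.range)))
    refine ⟨f.range, f.ker, char_range_of_pow f hf, char_ker_of_pow f hf, hle, hR.le, ?_, ?_⟩
    · rw [hR, hi, hi2, sq]
    · rw [hcard, hi, hi2, ← pow_succ']

/-- In a nonabelian group of order `p ^ 3` the centre is the commutator subgroup of order `p`. -/
theorem center_facts (hP : IsPGroup p P) (hcard : Nat.card P = p ^ 3) (hab : ¬ IsMulCommutative P) :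
    Nat.card (Subgroup.center P) = p ∧ commutator P = Subgroup.center P := by
  have hp := (Fact.out : p.Prime)
  set Z := Subgroup.center P
  obtain ⟨i, hi⟩ := IsPGroup.iff_card.1 (hP.to_subgroup Z)
  have : Nontrivial P := by
    rw [← Finite.one_lt_card_iff_nontrivial, hcard]
    exact Nat.one_lt_pow (by norm_num) hp.one_lt
  have hi0 : i ≠ 0 := fun h => by
    have := hP.center_nontrivial
    have h1 : 1 < Nat.card Z := Finite.one_lt_card
    rw [hi, h, pow_zero] at h1
    exact lt_irrefl _ h1
  have hmul : Nat.card Z * Z.index = p ^ 3 := by rw [Subgroup.card_mul_index, hcard]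
  obtain ⟨j, hj⟩ := IsPGroup.iff_card.1 (hP.to_quotient Z)
  rw [← Subgroup.index_eq_card] at hj
  rw [hi, hj, ← pow_add] at hmul
  have hij : i + j = 3 := Nat.pow_right_injective hp.two_le hmul
  have hj2 : j = 2 := by
    rcases j with _ | _ | _ | j
    · have htop : Z = ⊤ := Subgroup.index_eq_one.1 (by rw [hj, pow_zero])
      exact absurd ⟨⟨fun a b => Subgroup.mem_center_iff.1 (show b ∈ Z by rw [htop]; exact Subgroup.mem_top b) a⟩⟩ hab
    · exfalso
      have : IsCyclic (P ⧸ Z) := isCyclic_of_prime_card (p := p) (by rw [← Subgroup.index_eq_card, hj, pow_one])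
      exact hab ⟨⟨commutative_of_cyclic_center_quotient (QuotientGroup.mk' Z)
        (by rw [QuotientGroup.ker_mk'])⟩⟩
    · rfl
    · omega
  have hZ : Nat.card Z = p := by rw [hi, show i = 1 by omega, pow_one]
  refine ⟨hZ, ?_⟩
  have hle : commutator P ≤ Z := by
    have : IsMulCommutative (P ⧸ Z) :=
      ⟨⟨IsPGroup.commutative_of_card_eq_prime_sq (p := p) (by rw [← Subgroup.index_eq_card, hj, hj2])⟩⟩
    exact (Subgroup.Normal.quotient_commutative_iff_commutator_le (N := Z)).mp inferInstance
  obtain ⟨k, hk⟩ := IsPGroup.iff_card.1 (hP.to_subgroup (commutator P))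
  refine Subgroup.eq_of_le_of_card_ge hle ?_
  rw [hZ, hk]
  refine Nat.le_self_pow (fun h => hab ?_) p
  have hb : commutator P = ⊥ := Subgroup.card_eq_one.1 (by rw [hk, h, pow_zero])
  refine ⟨⟨fun a b => commutatorElement_eq_one_iff_mul_comm.1 (Subgroup.mem_bot.1 ?_)⟩⟩
  rw [← hb]
  exact Subgroup.commutator_mem_commutator (Subgroup.mem_top a) (Subgroup.mem_top b)

/-- The dichotomy for groups of order `p ^ 3`. -/
theorem cube_dichotomy (hP : IsPGroup p P) (hcard : Nat.card P = p ^ 3) :
    (IsMulCommutative P ∧ ∀ x : P, x ^ p = 1) ∨ (Odd p ∧ IsExtraspecial p P ∧ ∀ x : P, x ^ p = 1) ∨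
      (p = 2 ∧ Nonempty (P ≃* QuaternionGroup 2)) ∨ HasChain p P := by
  have hp := (Fact.out : p.Prime)
  by_cases hab : IsMulCommutative P
  · by_cases he : ∀ x : P, x ^ p = 1
    · exact Or.inl ⟨hab, he⟩
    · exact Or.inr (Or.inr (Or.inr (chain_of_powHom hP hcard
        (MonoidHom.mk' (fun x => x ^ p) fun a b => Commute.mul_pow (hab.1.1 a b) p) (fun _ => rfl) he)))
  obtain ⟨hZ, hC⟩ := center_facts hP hcard hab
  have hcomm : ∀ a b c : P, Commute ⁅a, b⁆ c := fun a b c => by
    have h : ⁅a, b⁆ ∈ Subgroup.center P := hC ▸ Subgroup.commutator_mem_commutator (Subgroup.mem_top a) (Subgroup.mem_top b)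
    exact (Subgroup.mem_center_iff.1 h c).symm
  have hcp : ∀ z ∈ Subgroup.center P, z ^ p = 1 := fun z hz => by
    rw [← hZ]; exact congrArg Subtype.val (pow_card_eq_one' (x := (⟨z, hz⟩ : Subgroup.center P)))
  rcases hp.eq_two_or_odd' with rfl | hodd
  · -- the two groups of order eight
    have hsq : ∀ x : P, x ^ 2 ∈ Subgroup.center P := fun x => by
      refine Subgroup.mem_center_iff.2 fun g => ?_
      have h1 : g * x * g⁻¹ = ⁅g, x⁆ * x := by rw [commutatorElement_def]; group
      have h2 : (g * x * g⁻¹) ^ 2 = x ^ 2 := by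
        rw [h1, (hcomm g x x).mul_pow, hcp _ (hC ▸ Subgroup.commutator_mem_commutator (Subgroup.mem_top g) (Subgroup.mem_top x)), one_mul]
      rw [conj_pow] at h2
      calc g * x ^ 2 = g * x ^ 2 * g⁻¹ * g := by group
        _ = x ^ 2 * g := by rw [h2]
    by_cases huniq : ∀ H K : Subgroup P, Nat.card H = 2 → Nat.card K = 2 → H = K
    · rcases Cfsg.Agent.Lib.UniqueInvolution.isCyclic_or_quaternion hP huniq with hc | ⟨-, n, hn, ⟨e⟩⟩
      · exact absurd hc.isMulCommutative hab
      · refine Or.inr (Or.inr (Or.inl ⟨rfl, ?_⟩))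
        have h8 := Nat.card_congr e.toEquiv
        rw [hcard, Nat.card_eq_fintype_card, QuaternionGroup.card] at h8
        have h2 : 2 ^ n = 2 := by
          norm_num at h8
          omega
        exact ⟨h2 ▸ e⟩
    refine Or.inr (Or.inr (Or.inr ?_))
    -- an involution outside the centre
    obtain ⟨t, ht2, htZ⟩ : ∃ t : P, t ^ 2 = 1 ∧ t ∉ Subgroup.center P := by
      by_contra! h
      apply huniq
      intro H K hH hK
      have key : ∀ H : Subgroup P, Nat.card H = 2 → H = Subgroup.center P := fun H hH =>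
        Subgroup.eq_of_le_of_card_ge (fun x hx => h x (by
          rw [← hH]; exact congrArg Subtype.val (pow_card_eq_one' (x := (⟨x, hx⟩ : H))))) (by rw [hZ, hH])
      rw [key H hH, key K hK]
    obtain ⟨x, hx⟩ : ∃ x : P, x ^ 2 ≠ 1 := by
      by_contra! h
      exact hab ⟨⟨fun a b => by
        have ha := h a; have hb := h b; have hab' := h (a * b)
        rw [sq, mul_eq_one_iff_eq_inv] at ha hb hab'
        rw [hab', mul_inv_rev, ← ha, ← hb]⟩⟩
    set C := Subgroup.zpowers x with hCdef
    have hx4 : x ^ 4 = 1 := by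
      rw [show 4 = 2 * 2 from rfl, pow_mul]
      exact hcp _ (hsq x)
    have hord : orderOf x = 4 := orderOf_eq_prime_pow (p := 2) (n := 1) (by simpa using hx) (by simpa using hx4)
    have hCcard : Nat.card C = 4 := by rw [hCdef, Nat.card_zpowers, hord]
    have hCi : C.index = 2 := by
      have h := Subgroup.card_mul_index C
      rw [hCcard, hcard] at h
      omega
    have hCn : C.Normal := Subgroup.normal_of_index_eq_two hCi
    have hmem : ∀ y ∈ C, y ∈ Subgroup.center P ∨ y = x ∨ y = x⁻¹ := by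
      intro y hy
      obtain ⟨k, rfl⟩ := mem_powers_iff_mem_zpowers.2 hy
      simp only
      rw [← pow_mod_orderOf, hord]
      have : k % 4 < 4 := Nat.mod_lt _ (by norm_num)
      interval_cases k % 4
      · exact Or.inl (by simp)
      · exact Or.inr (Or.inl (pow_one x))
      · exact Or.inl (hsq x)
      · exact Or.inr (Or.inr (eq_inv_of_mul_eq_one_left (by rw [← pow_succ]; exact hx4)))
    have htC : t ∉ C := by
      intro h
      rcases hmem t h with h | h | h
      · exact htZ h
      · exact hx (h ▸ ht2)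
      · exact hx (inv_eq_one.1 (by rw [← inv_pow, ← h, ht2]))
    have hconj : t * x * t⁻¹ = x⁻¹ := by
      rcases hmem _ (hCn.conj_mem x (Subgroup.mem_zpowers x) t) with h | h | h
      · exfalso
        have h2 := hcp _ h
        rw [conj_pow, mul_inv_eq_one, mul_eq_left] at h2
        exact hx h2
      · exfalso
        have hc : Commute t x := mul_inv_eq_iff_eq_mul.1 h
        apply hab
        have htop : C ⊔ Subgroup.zpowers t = ⊤ := by
          have hlt : C < C ⊔ Subgroup.zpowers t := lt_of_le_of_ne le_sup_left fun e =>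
            htC (e ▸ Subgroup.mem_sup_right (Subgroup.mem_zpowers t))
          refine Subgroup.index_eq_one.1 ?_
          have h1 := Subgroup.relIndex_mul_index hlt.le
          rw [hCi] at h1
          rcases (Nat.prime_two.eq_one_or_self_of_dvd _ ⟨_, h1.symm⟩) with h3 | h3
          · exact absurd (Subgroup.relIndex_eq_one.1 h3) hlt.not_ge
          · rw [h3] at h1; omega
        refine ⟨⟨fun a b => ?_⟩⟩
        have hcen : ∀ a : P, a ∈ Subgroup.centralizer ({t, x} : Set P) := by
          intro a
          have : C ⊔ Subgroup.zpowers t ≤ Subgroup.centralizer ({t, x} : Set P) := by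
            rw [sup_le_iff, hCdef, Subgroup.zpowers_le, Subgroup.zpowers_le]
            constructor <;> rw [Subgroup.mem_centralizer_iff] <;> rintro u (rfl | rfl)
            exacts [hc, rfl, rfl, hc.symm]
          exact this (htop ▸ Subgroup.mem_top a)
        have hgen : C ⊔ Subgroup.zpowers t ≤ Subgroup.centralizer ({a} : Set P) := by
          rw [sup_le_iff, hCdef, Subgroup.zpowers_le, Subgroup.zpowers_le]
          constructor <;> rw [Subgroup.mem_centralizer_singleton_iff]
          · exact hcen a x (Or.inr rfl)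
          · exact hcen a t (Or.inl rfl)
        exact (Subgroup.mem_centralizer_singleton_iff.1 (hgen (htop ▸ Subgroup.mem_top b))).symm
      · exact h
    have hout : ∀ y : P, y ∉ C → y ^ 2 = 1 := by
      intro y hy
      have hc : t * y ∈ C := (Subgroup.mul_mem_iff_of_index_two hCi).2 (iff_of_false htC hy)
      obtain ⟨k, hk⟩ := mem_powers_iff_mem_zpowers.2 hc
      simp only at hk
      have ht : t⁻¹ = t := inv_eq_of_mul_eq_one_right (by rw [← sq, ht2])
      have hy' : y = t * x ^ k := by rw [hk, ← mul_assoc, ← sq, ht2, one_mul]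
      have h1 : t * x ^ k * t = (x ^ k)⁻¹ := by
        conv_lhs => rw [show t * x ^ k * t = t * x ^ k * t⁻¹ by rw [ht]]
        rw [← conj_pow, hconj, inv_pow]
      rw [hy', sq, ← mul_assoc, h1, inv_mul_cancel]
    set M := Subgroup.closure {y : P | y ^ 2 ≠ 1} with hM
    have hMC : M ≤ C := (Subgroup.closure_le _).2 fun y hy => by_contra fun h => hy (hout y h)
    have hMx : x ∈ M := Subgroup.subset_closure hx
    have hMeq : M = C := le_antisymm hMC (Subgroup.zpowers_le.2 hMx)
    have hMchar : M.Characteristic := by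
      refine Subgroup.characteristic_iff_map_le.2 fun φ => ?_
      rw [hM, MonoidHom.map_closure, Subgroup.closure_le]
      rintro _ ⟨y, hy, rfl⟩
      refine Subgroup.subset_closure fun h => hy ?_
      rw [← map_pow] at h
      exact φ.injective (h.trans (map_one φ).symm)
    have hZC : Subgroup.center P ≤ M := by
      have hz : x ^ 2 ∈ Subgroup.center P := hsq x
      have : Subgroup.zpowers (x ^ 2) = Subgroup.center P := by
        refine Subgroup.eq_of_le_of_card_ge (Subgroup.zpowers_le.2 hz) ?_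
        rw [hZ, Nat.card_zpowers, orderOf_eq_prime (hcp _ hz) hx]
      rw [← this, Subgroup.zpowers_le]
      exact pow_mem hMx 2
    refine ⟨Subgroup.center P, M, inferInstance, hMchar, hZC, hZ.le, ?_, ?_⟩
    · rw [hMeq, hCcard, hZ]
    · rw [hMeq, hCcard, hcard]; norm_num
  · -- odd primes
    have hp2 : p ≠ 2 := fun h => by rw [h] at hodd; exact absurd hodd (by decide)
    by_cases he : ∀ x : P, x ^ p = 1
    · refine Or.inr (Or.inl ⟨hodd, ⟨⟨hP, ?_, hC⟩, hZ⟩, he⟩)
      refine le_antisymm ?_ (hC ▸ Cfsg.Agent.Lib.PGroupFrattini.commutator_le_frattini hP)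
      exact Cfsg.Agent.Lib.PGroupFrattini.frattini_le hp _ hC.le fun x => by rw [he]; exact one_mem _
    · refine Or.inr (Or.inr (Or.inr (chain_of_powHom hP hcard
        (MonoidHom.mk' (fun x => x ^ p) fun a b => ?_) (fun _ => rfl) he)))
      rw [Cfsg.Agent.Lib.Thompson.mul_pow_class_two (Cfsg.Agent.Lib.Thompson.mul_comm_eq a b) (hcomm _ _ _)
        (hcomm _ _ _), Cfsg.Agent.Lib.Thompson.pow_choose_two_eq_one hp2
          (hcp _ (hC ▸ Subgroup.commutator_mem_commutator (Subgroup.mem_top _) (Subgroup.mem_top _))), mul_one]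

end Cfsg.Agent.Lib.FusionEssential
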