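import Cfsg.Agent.Lib.FusionEssential.OrderCube

/-!
Nonabelian groups of order `p ^ 4`: either one of the three types that may be essential, or a characteristic
chain exists.
-/

set_option autoImplicit false

namespace Cfsg.Agent.Lib.FusionEssential

open Cfsg
open scoped commutatorElement

/-- A characteristic chain of length four with all factors of order at most `p`. -/
def HasChainFour (p : ℕ) (P : Type*) [Group P] : Prop :=
  ∃ K L M : Subgroup P, K.Characteristic ∧ L.Characteristic ∧ M.Characteristic ∧ K ≤ L ∧ L ≤ M ∧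
    Nat.card K ≤ p ∧ Nat.card L ≤ p * Nat.card K ∧ Nat.card M ≤ p * Nat.card L ∧ Nat.card P ≤ p * Nat.card M

theorem not_essential_of_four {Ω : Type*} [Group Ω] {S : Subgroup Ω} [Finite S] {F : FusionSystem S} {p : ℕ}
    [Fact p.Prime] (hS : IsPGroup p S) {P : Subgroup Ω} (hP : F.IsEssential p P) (h : HasChainFour p P) :
    False := by
  obtain ⟨K, L, M, hK, hL, hM, hKL, hLM, h1, h2, h3, h4⟩ := h
  let C : ℕ → Subgroup P := fun i => match i with
    | 0 => ⊥
    | 1 => K
    | 2 => L
    | 3 => M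
    | _ => ⊤
  have hinv : ∀ (H : Subgroup P), H.Characteristic → ∀ (α : MulAut P) (x : P), x ∈ H → α x ∈ H :=
    fun H hH α x hx => (Subgroup.characteristic_iff_map_le.1 hH α) ⟨x, hx, rfl⟩
  refine not_essential_of_chain hS hP C ?_ ?_ ?_ ?_ (k := 4) rfl rfl
  · intro α _ i x hx
    match i with
    | 0 => rw [Subgroup.mem_bot.1 hx, map_one]; exact one_mem _
    | 1 => exact hinv K hK α x hx
    | 2 => exact hinv L hL α x hx
    | 3 => exact hinv M hM α x hx
    | _ + 4 => exact Subgroup.mem_top _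
  · intro i
    match i with
    | 0 => exact inferInstanceAs ((⊥ : Subgroup P).Normal)
    | 1 => exact inferInstanceAs K.Normal
    | 2 => exact inferInstanceAs L.Normal
    | 3 => exact inferInstanceAs M.Normal
    | _ + 4 => exact inferInstanceAs ((⊤ : Subgroup P).Normal)
  · intro i
    match i with
    | 0 => simpa [C] using h1
    | 1 => exact h2
    | 2 => exact h3
    | 3 => simpa [C, Subgroup.card_top] using h4
    | _ + 4 => exact Nat.le_mul_of_pos_left _ (Fact.out : p.Prime).pos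
  · intro i
    match i with
    | 0 => exact bot_le
    | 1 => exact hKL
    | 2 => exact hLM
    | 3 => exact le_top
    | _ + 4 => exact le_rfl

section Group

variable {P : Type*} [Group P] [Finite P] {p : ℕ} [Fact p.Prime]

theorem card_mul_ker {Q : Type*} [Group Q] (f : P →* Q) :
    Nat.card f.ker * Nat.card f.range = Nat.card P := by
  rw [← Subgroup.index_ker, Subgroup.card_mul_index]

/-- In a nonabelian group of order `p ^ 4` the centre has order `p` or `p ^ 2`. -/
theorem center_cases (hP : IsPGroup p P) (hcard : Nat.card P = p ^ 4) (hab : ¬ IsMulCommutative P) :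
    Nat.card (Subgroup.center P) = p ∨
      (Nat.card (Subgroup.center P) = p ^ 2 ∧ commutator P ≤ Subgroup.center P) := by
  have hp := (Fact.out : p.Prime)
  set Z := Subgroup.center P
  obtain ⟨i, hi⟩ := IsPGroup.iff_card.1 (hP.to_subgroup Z)
  obtain ⟨j, hj⟩ := IsPGroup.iff_card.1 (hP.to_quotient Z)
  rw [← Subgroup.index_eq_card] at hj
  have hmul : Nat.card Z * Z.index = p ^ 4 := by rw [Subgroup.card_mul_index, hcard]
  rw [hi, hj, ← pow_add] at hmul
  have hij : i + j = 4 := Nat.pow_right_injective hp.two_le hmul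
  have : Nontrivial P := by
    rw [← Finite.one_lt_card_iff_nontrivial, hcard]
    exact Nat.one_lt_pow (by norm_num) hp.one_lt
  have hi0 : i ≠ 0 := fun h => by
    have := hP.center_nontrivial
    have h1 : 1 < Nat.card Z := Finite.one_lt_card
    rw [hi, h, pow_zero] at h1
    exact lt_irrefl _ h1
  have hj2 : 2 ≤ j := by
    rcases j with _ | _ | j
    · have htop : Z = ⊤ := Subgroup.index_eq_one.1 (by rw [hj, pow_zero])
      exact absurd ⟨⟨fun a b => Subgroup.mem_center_iff.1 (show b ∈ Z by rw [htop]; exact Subgroup.mem_top b) a⟩⟩ hab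
    · exfalso
      have : IsCyclic (P ⧸ Z) := isCyclic_of_prime_card (p := p) (by rw [← Subgroup.index_eq_card, hj, pow_one])
      exact hab ⟨⟨commutative_of_cyclic_center_quotient (QuotientGroup.mk' Z)
        (by rw [QuotientGroup.ker_mk'])⟩⟩
    · omega
  rcases (show i = 1 ∨ i = 2 by omega) with h | h
  · exact Or.inl (by rw [hi, h, pow_one])
  · refine Or.inr ⟨by rw [hi, h], ?_⟩
    have : IsMulCommutative (P ⧸ Z) := ⟨⟨IsPGroup.commutative_of_card_eq_prime_sq (p := p)
      (by rw [← Subgroup.index_eq_card, hj, show j = 2 by omega])⟩⟩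
    exact (Subgroup.Normal.quotient_commutative_iff_commutator_le (N := Z)).mp inferInstance

/-- If the centre has order `p`, there is a chain. -/
theorem chain_of_small_center (hP : IsPGroup p P) (hcard : Nat.card P = p ^ 4) (hab : ¬ IsMulCommutative P)
    (hZ : Nat.card (Subgroup.center P) = p) : HasChainFour p P := by
  have hp := (Fact.out : p.Prime)
  set Z := Subgroup.center P
  have hZi : Z.index = p ^ 3 := by
    have h := Subgroup.card_mul_index Z
    rw [hZ, hcard, pow_succ' p 3] at h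
    exact Nat.eq_of_mul_eq_mul_left hp.pos h
  have hQcard : Nat.card (P ⧸ Z) = p ^ 3 := by rw [← Subgroup.index_eq_card, hZi]
  set π := QuotientGroup.mk' Z with hπ
  have hπs : Function.Surjective π := QuotientGroup.mk'_surjective Z
  have hπk : ∀ g, π g = 1 ↔ g ∈ Z := fun g => QuotientGroup.eq_one_iff g
  have hzp : ∀ z ∈ Z, z ^ p = 1 := fun z hz => by
    rw [← hZ]; exact congrArg Subtype.val (pow_card_eq_one' (x := (⟨z, hz⟩ : Z)))
  -- the quotient by the centre is nonabelian
  have hQab : ¬ IsMulCommutative (P ⧸ Z) := by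
    intro h
    have hcz : ∀ a b : P, ⁅a, b⁆ ∈ Z := fun a b => by
      rw [← hπk, map_commutatorElement, commutatorElement_eq_one_iff_mul_comm]
      exact h.1.1 _ _
    have hc : ∀ a b c : P, Commute ⁅a, b⁆ c := fun a b c => (Subgroup.mem_center_iff.1 (hcz a b) c).symm
    let φ : P → (P →* Z) := fun x => MonoidHom.mk' (fun y => ⟨⁅x, y⁆, hcz x y⟩) fun a b => by
      apply Subtype.ext
      show ⁅x, a * b⁆ = ⁅x, a⁆ * ⁅x, b⁆
      rw [show ⁅x, a * b⁆ = ⁅x, a⁆ * (a * ⁅x, b⁆ * a⁻¹) by simp only [commutatorElement_def]; group,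
        ← (hc x b a).eq, mul_inv_cancel_right]
    have hφk : ∀ x y, y ∈ (φ x).ker ↔ Commute x y := fun x y => by
      rw [MonoidHom.mem_ker, ← commutatorElement_eq_one_iff_commute, Subtype.ext_iff]; rfl
    have hindex : ∀ x, (φ x).ker.index ≤ p := fun x => by
      rw [Subgroup.index_ker, ← hZ]; exact Subgroup.card_le_card_group _
    obtain ⟨x, hx⟩ : ∃ x : P, x ∉ Z := by
      by_contra! h'
      exact hab ⟨⟨fun a b => Subgroup.mem_center_iff.1 (h' b) a⟩⟩
    obtain ⟨y, hy⟩ : ∃ y : P, ¬ Commute x y := by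
      by_contra! h'
      exact hx (Subgroup.mem_center_iff.2 fun g => (h' g).eq.symm)
    have hi : ∀ x y : P, ¬ Commute x y → (φ x).ker.index = p := by
      intro x y hxy
      rcases (IsPGroup.index hP (φ x).ker) with ⟨e, he⟩
      have h1 := hindex x
      rw [he] at h1
      have he1 : e ≤ 1 := (Nat.pow_le_pow_iff_right hp.one_lt).1 (by rw [pow_one]; exact h1)
      rcases Nat.le_one_iff_eq_zero_or_eq_one.1 he1 with rfl | rfl
      · exact absurd ((hφk x y).1 ((Subgroup.index_eq_one.1 (by rw [he, pow_zero])).symm ▸ Subgroup.mem_top y)) hxy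
      · rw [he, pow_one]
    set A := (φ x).ker ⊓ (φ y).ker
    have hA : p ^ 2 ≤ Nat.card A := by
      have h1 : A.index ≤ p * p := Subgroup.index_inf_le.trans (Nat.mul_le_mul (hindex x) (hindex y))
      have h2 := Subgroup.card_mul_index A
      rw [hcard, show p ^ 4 = p ^ 2 * (p * p) by ring] at h2
      by_contra hlt
      have h3 : Nat.card A * A.index < p ^ 2 * (p * p) :=
        lt_of_lt_of_le (Nat.mul_lt_mul_of_pos_right (not_le.1 hlt)
          (Nat.pos_of_ne_zero Subgroup.FiniteIndex.index_ne_zero)) (Nat.mul_le_mul_left _ h1)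
      exact h3.ne h2
    obtain ⟨w, hwA, hwZ⟩ : ∃ w ∈ A, w ∉ Z := by
      by_contra! h'
      have := (hA.trans (Subgroup.card_le_of_le (show A ≤ Z from h'))).trans_eq hZ
      exact this.not_gt (lt_self_pow₀ hp.one_lt (by norm_num))
    -- the element `w` commutes with a generating set
    have hgenZ : ∀ u v : P, ¬ Commute u v → ∀ z : Z, ∃ k : ℤ, φ u v ^ k = z := by
      intro u v huv z
      have hne : φ u v ≠ 1 := fun h => huv ((hφk u v).1 h)
      have htop : Subgroup.zpowers (φ u v) = ⊤ := by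
        refine Subgroup.eq_top_of_le_card _ ?_
        rw [hZ, Nat.card_zpowers]
        exact (orderOf_eq_prime (Subtype.ext (hzp _ (φ u v).2)) hne).ge
      exact Subgroup.mem_zpowers_iff.1 (htop ▸ Subgroup.mem_top z)
    have hwx : Commute w x := ((hφk x w).1 hwA.1).symm
    have hwy : Commute w y := ((hφk y w).1 hwA.2).symm
    have hAw : ∀ u ∈ A, Commute w u := by
      intro u hu
      by_contra hwu
      -- otherwise `A` would be nonabelian of order `p ^ 2`
      have hBc : Nat.card A ≤ p ^ 2 := by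
        let ψ : P →* Z × Z := (φ x).prod (φ y)
        have hk : ψ.ker = A := MonoidHom.ker_prod _ _
        have hsurj : Function.Surjective ψ := by
          rintro ⟨z₁, z₂⟩
          obtain ⟨k, rfl⟩ := hgenZ x y hy z₁
          obtain ⟨l, rfl⟩ := hgenZ y x (fun h => hy h.symm) z₂
          refine ⟨y ^ k * x ^ l, Prod.ext ?_ ?_⟩
          · show φ x (y ^ k * x ^ l) = _
            rw [map_mul, map_zpow, map_zpow, show φ x x = 1 from (hφk x x).2 (Commute.refl x), one_zpow, mul_one]
          · show φ y (y ^ k * x ^ l) = _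
            rw [map_mul, map_zpow, map_zpow, show φ y y = 1 from (hφk y y).2 (Commute.refl y), one_zpow, one_mul]
        have h1 := card_mul_ker ψ
        rw [hk, MonoidHom.range_eq_top.2 hsurj, Subgroup.card_top, Nat.card_prod, hZ, hcard,
          show p ^ 4 = p ^ 2 * (p * p) by ring] at h1
        exact (Nat.eq_of_mul_eq_mul_right (Nat.mul_pos hp.pos hp.pos) h1).le
      exact hwu (congrArg Subtype.val (IsPGroup.commutative_of_card_eq_prime_sq (p := p) (G := A)
        (le_antisymm hBc hA) ⟨w, hwA⟩ ⟨u, hu⟩))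
    refine hwZ (Subgroup.mem_center_iff.2 fun g => ?_)
    obtain ⟨k, hk⟩ := hgenZ x y hy (φ x g)
    obtain ⟨l, hl⟩ := hgenZ y x (fun h => hy h.symm) (φ y g)
    have hu : g * (y ^ k * x ^ l)⁻¹ ∈ A := by
      refine ⟨MonoidHom.mem_ker.2 ?_, MonoidHom.mem_ker.2 ?_⟩ <;> rw [map_mul, map_inv, map_mul, map_zpow, map_zpow]
      · rw [show φ x x = 1 from (hφk x x).2 (Commute.refl x), one_zpow, mul_one, hk, mul_inv_cancel]
      · rw [show φ y y = 1 from (hφk y y).2 (Commute.refl y), one_zpow, one_mul, hl, mul_inv_cancel]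
    have hall := (hAw _ hu).mul_right ((hwy.zpow_right k).mul_right (hwx.zpow_right l))
    rw [inv_mul_cancel_right] at hall
    exact hall.eq.symm
  obtain ⟨hQZ, hQC⟩ := center_facts (hP.to_quotient Z) hQcard hQab
  set D := commutator P
  have hDm : D.map π = commutator (P ⧸ Z) := by
    show (commutator P).map π = _
    rw [commutator_def, Subgroup.map_commutator, Subgroup.map_top_of_surjective π hπs, commutator_def]
  have hDcz : ∀ g : P, ∀ d ∈ D, ⁅g, d⁆ ∈ Z := fun g d hd => by
    rw [← hπk, map_commutatorElement, commutatorElement_eq_one_iff_mul_comm]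
    have h : π d ∈ Subgroup.center (P ⧸ Z) := hQC ▸ hDm ▸ ⟨d, hd, rfl⟩
    exact Subgroup.mem_center_iff.1 h _
  have hZD : Z ≤ D := by
    have hne : D ≠ ⊥ := fun h => hab ⟨⟨fun a b => commutatorElement_eq_one_iff_mul_comm.1 (Subgroup.mem_bot.1
      (h ▸ Subgroup.commutator_mem_commutator (Subgroup.mem_top a) (Subgroup.mem_top b)))⟩⟩
    obtain ⟨z, hz, hz1⟩ : ∃ z ∈ D ⊓ Z, z ≠ 1 := by
      by_contra! h'
      refine hne ((Subgroup.eq_bot_iff_forall _).2 fun a ha => h' a ⟨ha, Subgroup.mem_center_iff.2 fun g => ?_⟩)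
      refine commutatorElement_eq_one_iff_mul_comm.1 (h' _ ⟨?_, hDcz g a ha⟩)
      show _ ∈ D
      rw [commutatorElement_def]
      exact D.mul_mem ((inferInstance : (commutator P).Normal).conj_mem a ha g) (D.inv_mem ha)
    have : Subgroup.zpowers z = Z := by
      refine Subgroup.eq_of_le_of_card_ge (Subgroup.zpowers_le.2 hz.2) ?_
      rw [hZ, Nat.card_zpowers, orderOf_eq_prime (hzp z hz.2) hz1]
    rw [← this, Subgroup.zpowers_le]
    exact hz.1
  have hDc : Nat.card D = p ^ 2 := by
    have h1 := card_mul_ker (π.comp D.subtype)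
    rw [MonoidHom.range_comp, Subgroup.range_subtype, hDm, hQC, hQZ] at h1
    have h2 : Nat.card (π.comp D.subtype).ker = p := by
      rw [← hZ, ← Nat.card_congr (Subgroup.subgroupOfEquivOfLe hZD).toEquiv]
      congr 2
      ext z
      simp [MonoidHom.mem_ker, Subgroup.mem_subgroupOf, hπ, Z]
    rw [h2, ← sq] at h1
    exact h1.symm
  obtain ⟨d, hdD, hdZ⟩ : ∃ d ∈ D, d ∉ Z := by
    by_contra! h
    have h1 := Subgroup.card_le_of_le (show D ≤ Z from h)
    rw [hDc, hZ] at h1
    exact h1.not_gt (lt_self_pow₀ hp.one_lt (by norm_num))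
  have hDab : ∀ a ∈ D, ∀ b ∈ D, a * b = b * a := fun a ha b hb =>
    congrArg Subtype.val (IsPGroup.commutative_of_card_eq_prime_sq (p := p) (G := D) hDc ⟨a, ha⟩ ⟨b, hb⟩)
  have hDne : ¬ D ≤ Subgroup.center P := fun h => hdZ (h hdD)
  let ψ : P →* Z := MonoidHom.mk' (fun g => ⟨⁅g, d⁆, hDcz g d hdD⟩) fun a b => by
    apply Subtype.ext
    show ⁅a * b, d⁆ = ⁅a, d⁆ * ⁅b, d⁆
    rw [show ⁅a * b, d⁆ = a * ⁅b, d⁆ * a⁻¹ * ⁅a, d⁆ by simp only [commutatorElement_def]; group,
      Subgroup.mem_center_iff.1 (hDcz b d hdD) a, mul_inv_cancel_right,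
      Subgroup.mem_center_iff.1 (hDcz b d hdD) ⁅a, d⁆]
  set M := Subgroup.centralizer (D : Set P)
  have hDM : D ≤ M := fun a ha => Subgroup.mem_centralizer_iff.2 fun b hb => hDab b hb a ha
  have hgen : D ≤ Z ⊔ Subgroup.zpowers d := by
    have hlt : Z < Z ⊔ Subgroup.zpowers d := lt_of_le_of_ne le_sup_left fun h =>
      hdZ (h ▸ Subgroup.mem_sup_right (Subgroup.mem_zpowers d))
    have hle : Z ⊔ Subgroup.zpowers d ≤ D := sup_le hZD (Subgroup.zpowers_le.2 hdD)
    refine (Subgroup.eq_of_le_of_card_ge hle ?_).ge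
    rw [hDc]
    obtain ⟨k, hk⟩ := IsPGroup.iff_card.1 (hP.to_subgroup (Z ⊔ Subgroup.zpowers d))
    have h1 : Nat.card Z < Nat.card ↥(Z ⊔ Subgroup.zpowers d) :=
      lt_of_le_of_ne (Subgroup.card_le_of_le hlt.le) fun h => hlt.ne (Subgroup.eq_of_le_of_card_ge hlt.le h.ge)
    rw [hZ, hk] at h1
    rw [hk]
    refine Nat.pow_le_pow_right hp.pos ?_
    by_contra h
    exact h1.not_ge ((Nat.pow_le_pow_right hp.pos (show k ≤ 1 by omega)).trans (pow_one p).le)
  have hker : ψ.ker ≤ M := fun g hg => by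
    have hg' : Commute g d := commutatorElement_eq_one_iff_commute.1 (congrArg Subtype.val (MonoidHom.mem_ker.1 hg))
    refine Subgroup.mem_centralizer_iff.2 fun a ha => ?_
    have : Z ⊔ Subgroup.zpowers d ≤ Subgroup.centralizer ({g} : Set P) := by
      refine sup_le (fun z hz => Subgroup.mem_centralizer_singleton_iff.2 (Subgroup.mem_center_iff.1 hz g).symm) ?_
      rw [Subgroup.zpowers_le, Subgroup.mem_centralizer_singleton_iff]
      exact hg'.eq.symm
    exact Subgroup.mem_centralizer_singleton_iff.1 (this (hgen ha))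
  have hMc : Nat.card P ≤ p * Nat.card M := by
    rw [← card_mul_ker ψ, mul_comm p]
    exact Nat.mul_le_mul (Subgroup.card_le_of_le hker) (hZ ▸ Subgroup.card_le_card_group _)
  have hMlt : Nat.card M ≤ p * Nat.card D := by
    obtain ⟨k, hk⟩ := IsPGroup.iff_card.1 (hP.to_subgroup M)
    rw [hk, hDc, ← pow_succ']
    refine Nat.pow_le_pow_right hp.pos ?_
    by_contra h
    have hMtop : M = ⊤ := Subgroup.eq_top_of_le_card _ (by rw [hcard, hk]; exact Nat.pow_le_pow_right hp.pos (by omega))
    exact hDne fun a ha => Subgroup.mem_center_iff.2 fun g =>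
      (Subgroup.mem_centralizer_iff.1 (show g ∈ M by rw [hMtop]; exact Subgroup.mem_top g) a ha).symm
  exact ⟨Z, D, M, inferInstance, inferInstance, inferInstance, hZD, hDM, hZ.le, by rw [hDc, hZ, sq],
    hMlt, hMc⟩

theorem card_step (hP : IsPGroup p P) {A B : Subgroup P} (h : A < B) : p * Nat.card A ≤ Nat.card B := by
  obtain ⟨i, hi⟩ := IsPGroup.iff_card.1 (hP.to_subgroup A)
  obtain ⟨j, hj⟩ := IsPGroup.iff_card.1 (hP.to_subgroup B)
  have hlt : Nat.card A < Nat.card B := lt_of_le_of_ne (Subgroup.card_le_of_le h.le)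
    fun e => h.ne (Subgroup.eq_of_le_of_card_ge h.le e.ge)
  rw [hi, hj, Nat.pow_lt_pow_iff_right (Fact.out : p.Prime).one_lt] at hlt
  rw [hi, hj, ← pow_succ']
  exact Nat.pow_le_pow_right (Fact.out : p.Prime).pos hlt

theorem card_sup_zpowers_le {N : Subgroup P} [N.Normal] {x : P} (hx : x ^ p ∈ N) :
    Nat.card ↥(N ⊔ Subgroup.zpowers x) ≤ p * Nat.card N := by
  set π := QuotientGroup.mk' N
  have h1 := card_mul_ker (π.comp (N ⊔ Subgroup.zpowers x).subtype)
  rw [MonoidHom.range_comp, Subgroup.range_subtype, Subgroup.map_sup, MonoidHom.map_zpowers,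
    show N.map π = ⊥ by rw [Subgroup.map_eq_bot_iff, QuotientGroup.ker_mk'], bot_sup_eq] at h1
  rw [← h1, mul_comm p]
  refine Nat.mul_le_mul ?_ ?_
  · exact Nat.card_le_card_of_injective
      (fun z => (⟨((z : ↥(N ⊔ Subgroup.zpowers x)) : P), (QuotientGroup.eq_one_iff _).1 (MonoidHom.mem_ker.1 z.2)⟩ : N))
      (fun a b h => Subtype.ext (Subtype.ext (congrArg (fun w : N => (w : P)) h)))
  · rw [Nat.card_zpowers]
    refine Nat.le_of_dvd (Fact.out : p.Prime).pos (orderOf_dvd_of_pow_eq_one ?_)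
    rw [← map_pow]
    exact (QuotientGroup.eq_one_iff _).2 hx

/-- The homomorphism given by the powers of an element killed by `n`. -/
def powHomZMod {n : ℕ} [NeZero n] {G : Type*} [Group G] (z : G) (hz : z ^ n = 1) :
    Multiplicative (ZMod n) →* G :=
  MonoidHom.mk' (fun i => z ^ (Multiplicative.toAdd i).val) fun a b => by
    rw [← pow_add, toAdd_mul, ZMod.val_add]
    exact (pow_eq_pow_mod _ hz).symm

theorem self_mem_range_powHomZMod {n : ℕ} [NeZero n] (hn : 1 < n) {G : Type*} [Group G] (z : G)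
    (hz : z ^ n = 1) : z ∈ (powHomZMod z hz).range := by
  have : Fact (1 < n) := ⟨hn⟩
  refine ⟨Multiplicative.ofAdd 1, ?_⟩
  show z ^ (1 : ZMod n).val = z
  rw [ZMod.val_one, pow_one]

theorem isExtraspecial_of_cube {E : Type*} [Group E] [Finite E] (hE : IsPGroup p E)
    (hcard : Nat.card E = p ^ 3) (hab : ¬ IsMulCommutative E) (he : ∀ x : E, x ^ p = 1) :
    IsExtraspecial p E := by
  obtain ⟨hZ, hC⟩ := center_facts hE hcard hab
  refine ⟨⟨hE, ?_, hC⟩, hZ⟩
  refine le_antisymm ?_ (hC ▸ Cfsg.Agent.Lib.PGroupFrattini.commutator_le_frattini hE)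
  exact Cfsg.Agent.Lib.PGroupFrattini.frattini_le (Fact.out : p.Prime) _ hC.le fun x => by rw [he]; exact one_mem _

/-- The nonabelian groups of order `p ^ 4`. -/
theorem fourth_dichotomy (hP : IsPGroup p P) (hcard : Nat.card P = p ^ 4) (hab : ¬ IsMulCommutative P) :
    HasChainFour p P ∨
      (Odd p ∧ ∃ (E : Type) (_ : Group E) (_ : Finite E), IsExtraspecial p E ∧ Nat.card E = p ^ 3 ∧
        (∀ x : E, x ^ p = 1) ∧ Nonempty (P ≃* E × Multiplicative (ZMod p))) ∨
      (p = 2 ∧ Nonempty (P ≃* QuaternionGroup 2 × Multiplicative (ZMod 2))) ∨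
      ((∀ x : P, x ^ (p ^ 2) = 1) ∧ IsCyclic ↥(Subgroup.center P) ∧ Nat.card (Subgroup.center P) = p ^ 2) := by
  classical
  have hp := (Fact.out : p.Prime)
  rcases center_cases hP hcard hab with hZ | ⟨hZ, hCZ⟩
  · exact Or.inl (chain_of_small_center hP hcard hab hZ)
  set Z := Subgroup.center P with hZdef
  have hcz : ∀ a b : P, ⁅a, b⁆ ∈ Z := fun a b =>
    hCZ (Subgroup.commutator_mem_commutator (Subgroup.mem_top a) (Subgroup.mem_top b))
  have hcm : ∀ a b c : P, Commute ⁅a, b⁆ c := fun a b c => (Subgroup.mem_center_iff.1 (hcz a b) c).symm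
  have hzz : ∀ z ∈ Z, z ^ (p ^ 2) = 1 := fun z hz => by
    rw [← hZ]; exact congrArg Subtype.val (pow_card_eq_one' (x := (⟨z, hz⟩ : Z)))
  have hQcard : Nat.card (P ⧸ Z) = p ^ 2 := by
    have h := Z.card_eq_card_quotient_mul_card_subgroup
    rw [hcard, hZ, show p ^ 4 = p ^ 2 * p ^ 2 by ring] at h
    exact (Nat.eq_of_mul_eq_mul_right (pow_pos hp.pos 2) h).symm
  have hpZ : ∀ x : P, x ^ p ∈ Z := by
    intro x
    rw [← QuotientGroup.eq_one_iff]
    obtain ⟨k, hk, hk'⟩ := (Nat.dvd_prime_pow hp).1 (hQcard ▸ orderOf_dvd_natCard (x : P ⧸ Z))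
    by_cases hk2 : k ≤ 1
    · rw [QuotientGroup.mk_pow]
      exact orderOf_dvd_iff_pow_eq_one.1 (hk' ▸ (pow_dvd_pow p hk2).trans (pow_one p).dvd)
    · exfalso
      have : IsCyclic (P ⧸ Z) := isCyclic_of_orderOf_eq_card (x : P ⧸ Z)
        (by rw [hk', show k = 2 by omega, hQcard])
      exact hab ⟨⟨commutative_of_cyclic_center_quotient (QuotientGroup.mk' Z)
        (by rw [QuotientGroup.ker_mk'])⟩⟩
  have hcp : ∀ a b : P, ⁅a, b⁆ ^ p = 1 := fun a b => by
    rw [← Cfsg.Agent.Lib.Thompson.commutator_pow_left (hcm a b a) p]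
    rw [commutatorElement_eq_one_iff_mul_comm]
    exact (Subgroup.mem_center_iff.1 (hpZ a) b).symm
  obtain ⟨x, y, hxy⟩ : ∃ x y : P, ⁅x, y⁆ ≠ 1 := by
    by_contra! h
    exact hab ⟨⟨fun a b => commutatorElement_eq_one_iff_mul_comm.1 (h a b)⟩⟩
  set c := ⁅x, y⁆ with hc
  set D := Subgroup.zpowers c with hD
  have hDc : Nat.card D = p := by rw [hD, Nat.card_zpowers, orderOf_eq_prime (hcp x y) hxy]
  have hDZ : D ≤ Z := Subgroup.zpowers_le.2 (hcz x y)
  have hDn : D.Normal := ⟨fun n hn g => by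
    rw [Subgroup.mem_center_iff.1 (hDZ hn) g, mul_inv_cancel_right]; exact hn⟩
  -- generators
  have hxZ : x ∉ Z := fun h => hxy (commutatorElement_eq_one_iff_mul_comm.2 (Subgroup.mem_center_iff.1 h y).symm)
  have hgen : ∀ u v : P, ⁅u, v⁆ ≠ 1 → Z ⊔ Subgroup.zpowers u ⊔ Subgroup.zpowers v = ⊤ := by
    intro u v huv
    have h1 : Z < Z ⊔ Subgroup.zpowers u := lt_of_le_of_ne le_sup_left fun h => huv
      (commutatorElement_eq_one_iff_mul_comm.2
        (Subgroup.mem_center_iff.1 (show u ∈ Z from h ▸ Subgroup.mem_sup_right (Subgroup.mem_zpowers u)) v).symm)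
    have h2 : Z ⊔ Subgroup.zpowers u < Z ⊔ Subgroup.zpowers u ⊔ Subgroup.zpowers v := by
      refine lt_of_le_of_ne le_sup_left fun h => huv (commutatorElement_eq_one_iff_mul_comm.2 ?_)
      have hle : Z ⊔ Subgroup.zpowers u ≤ Subgroup.centralizer ({u} : Set P) := by
        refine sup_le (fun z hz => Subgroup.mem_centralizer_singleton_iff.2 (Subgroup.mem_center_iff.1 hz u).symm) ?_
        rw [Subgroup.zpowers_le, Subgroup.mem_centralizer_singleton_iff]
      exact (Subgroup.mem_centralizer_singleton_iff.1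
        (hle (h ▸ Subgroup.mem_sup_right (Subgroup.mem_zpowers v)))).symm
    refine Subgroup.eq_top_of_le_card _ ?_
    have h3 := (Nat.mul_le_mul_left p (card_step hP h1)).trans (card_step hP h2)
    rwa [hZ, ← mul_assoc, ← sq, ← pow_add, ← hcard] at h3
  have hCD : commutator P = D := by
    refine le_antisymm ?_ (Subgroup.zpowers_le.2
      (Subgroup.commutator_mem_commutator (Subgroup.mem_top x) (Subgroup.mem_top y)))
    rw [← Subgroup.Normal.quotient_commutative_iff_commutator_le (N := D)]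
    set π := QuotientGroup.mk' D
    have hgc : ∀ a : P, π a ∈ Subgroup.centralizer ({π x, π y} : Set (P ⧸ D)) := by
      intro a
      have hle : Z ⊔ Subgroup.zpowers x ⊔ Subgroup.zpowers y ≤
          (Subgroup.centralizer ({π x, π y} : Set (P ⧸ D))).comap π := by
        have hxy' : π y * π x = π x * π y := by
          refine (commutatorElement_eq_one_iff_mul_comm.1 ?_).symm
          rw [← map_commutatorElement]
          exact (QuotientGroup.eq_one_iff _).2 (Subgroup.mem_zpowers c)
        refine sup_le (sup_le (fun z hz => ?_) ?_) ?_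
        · rw [Subgroup.mem_comap, Subgroup.mem_centralizer_iff]
          rintro u (rfl | rfl) <;> rw [← map_mul, ← map_mul, Subgroup.mem_center_iff.1 hz]
        · rw [Subgroup.zpowers_le, Subgroup.mem_comap, Subgroup.mem_centralizer_iff]
          rintro u (rfl | rfl)
          exacts [rfl, hxy']
        · rw [Subgroup.zpowers_le, Subgroup.mem_comap, Subgroup.mem_centralizer_iff]
          rintro u (rfl | rfl)
          exacts [hxy'.symm, rfl]
      exact hle ((hgen x y hxy).symm ▸ Subgroup.mem_top a)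
    refine ⟨⟨fun u v => ?_⟩⟩
    obtain ⟨a, rfl⟩ := QuotientGroup.mk'_surjective D u
    obtain ⟨b, rfl⟩ := QuotientGroup.mk'_surjective D v
    have hle : Z ⊔ Subgroup.zpowers x ⊔ Subgroup.zpowers y ≤
        (Subgroup.centralizer ({π a} : Set (P ⧸ D))).comap π := by
      refine sup_le (sup_le (fun z hz => ?_) ?_) ?_
      · rw [Subgroup.mem_comap, Subgroup.mem_centralizer_singleton_iff, ← map_mul, ← map_mul,
          Subgroup.mem_center_iff.1 hz]
      · rw [Subgroup.zpowers_le, Subgroup.mem_comap, Subgroup.mem_centralizer_singleton_iff]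
        exact Subgroup.mem_centralizer_iff.1 (hgc a) _ (Or.inl rfl)
      · rw [Subgroup.zpowers_le, Subgroup.mem_comap, Subgroup.mem_centralizer_singleton_iff]
        exact Subgroup.mem_centralizer_iff.1 (hgc a) _ (Or.inr rfl)
    exact (Subgroup.mem_centralizer_singleton_iff.1 (hle ((hgen x y hxy).symm ▸ Subgroup.mem_top b))).symm
  have hDchar : D.Characteristic := hCD ▸ (inferInstance : (commutator P).Characteristic)
  have hmem : ∀ a b : P, ⁅a, b⁆ ∈ D := fun a b =>
    hCD ▸ Subgroup.commutator_mem_commutator (Subgroup.mem_top a) (Subgroup.mem_top b)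
  have hpowmul : ∀ (n : ℕ) (a b : P), (a * b) ^ n = a ^ n * b ^ n * ⁅b⁻¹, a⁻¹⁆ ^ n.choose 2 := fun n a b =>
    Cfsg.Agent.Lib.Thompson.mul_pow_class_two (Cfsg.Agent.Lib.Thompson.mul_comm_eq a b) (hcm _ _ _) (hcm _ _ _) n
  have chain : ∀ M : Subgroup P, M.Characteristic → Z ≤ M → M ≠ ⊤ → Nat.card P ≤ p * Nat.card M →
      HasChainFour p P := fun M hM hZM hne hPM => by
    refine ⟨D, Z, M, hDchar, inferInstance, hM, hDZ, hZM, hDc.le, by rw [hDc, hZ, sq], ?_, hPM⟩
    have h1 := card_step hP (lt_top_iff_ne_top.2 hne)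
    rw [Subgroup.card_top, hcard, pow_succ' p 3] at h1
    rw [hZ, ← pow_succ']
    exact Nat.le_of_mul_le_mul_left h1 hp.pos
  by_cases hA : ∀ a : P, a ^ (p ^ 2) = 1
  swap
  · -- exponent larger than `p ^ 2`
    left
    obtain ⟨q, hq⟩ := hp.dvd_choose_pow (n := 2) (k := 2) two_ne_zero (by
      intro h
      have := Nat.pow_le_pow_left hp.two_le 2
      rw [← h] at this
      norm_num at this)
    let g : P →* P := MonoidHom.mk' (fun a => a ^ (p ^ 2)) fun a b => by
      rw [hpowmul, hq, pow_mul, hcp, one_pow, mul_one]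
    have hg : ∀ a, g a = a ^ (p ^ 2) := fun a => rfl
    refine chain g.ker (char_ker_of_pow g hg) (fun z hz => hzz z hz) (fun h => hA fun a => ?_) ?_
    · rw [← hg]; exact MonoidHom.mem_ker.1 (h ▸ Subgroup.mem_top a)
    rw [← card_mul_ker g, mul_comm p]
    refine Nat.mul_le_mul_left _ ?_
    let R : Z →* P := MonoidHom.mk' (fun z => (z : P) ^ p)
      fun a b => Commute.mul_pow (Subgroup.mem_center_iff.1 b.2 a) p
    have hle : g.range ≤ R.range := by
      rintro _ ⟨a, rfl⟩
      refine ⟨⟨a ^ p, hpZ a⟩, ?_⟩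
      show (a ^ p) ^ p = a ^ (p ^ 2)
      rw [← pow_mul, sq]
    refine (Subgroup.card_le_of_le hle).trans ?_
    have h1 := card_mul_ker R
    obtain ⟨z, hz⟩ := exists_prime_orderOf_dvd_card' (G := Z) p (hZ ▸ dvd_pow_self p two_ne_zero)
    have h2 : p ≤ Nat.card R.ker := by
      rw [← hz, ← Nat.card_zpowers]
      refine Subgroup.card_le_of_le (Subgroup.zpowers_le.2 ?_)
      show (z : P) ^ p = 1
      rw [← hz, ← Subgroup.coe_pow, pow_orderOf_eq_one]; rfl
    have h3 : p * Nat.card R.range ≤ p * p := by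
      calc p * Nat.card R.range ≤ Nat.card R.ker * Nat.card R.range := Nat.mul_le_mul_right _ h2
        _ = p * p := by rw [h1, hZ, sq]
    exact Nat.le_of_mul_le_mul_left h3 hp.pos
  by_cases hcyc : IsCyclic Z
  · exact Or.inr (Or.inr (Or.inr ⟨hA, hcyc, hZ⟩))
  have hzp : ∀ z ∈ Z, z ^ p = 1 := by
    intro z hz
    by_contra hne
    refine hcyc (isCyclic_of_orderOf_eq_card (⟨z, hz⟩ : Z) ?_)
    rw [Subgroup.orderOf_mk, hZ]
    exact orderOf_eq_prime_pow (n := 1) (by rwa [pow_one]) (hzz z hz)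
  obtain ⟨z, hzZ, hzD⟩ : ∃ z ∈ Z, z ∉ D := by
    by_contra! h
    have h1 := Subgroup.card_le_of_le (show Z ≤ D from h)
    rw [hZ, hDc] at h1
    exact h1.not_gt (lt_self_pow₀ hp.one_lt (by norm_num))
  have hDzZ : D ⊔ Subgroup.zpowers z = Z := by
    have hle : D ⊔ Subgroup.zpowers z ≤ Z := sup_le hDZ (Subgroup.zpowers_le.2 hzZ)
    refine Subgroup.eq_of_le_of_card_ge hle ?_
    have h1 := card_step hP (lt_of_le_of_ne (le_sup_left : D ≤ D ⊔ Subgroup.zpowers z)
      fun h => hzD (h ▸ Subgroup.mem_sup_right (Subgroup.mem_zpowers z)))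
    rwa [hDc, ← sq, ← hZ] at h1
  -- the `p`-th power modulo the derived subgroup
  let q : P →* P ⧸ D := MonoidHom.mk' (fun a => ((a ^ p : P) : P ⧸ D)) fun a b => by
    rw [hpowmul, QuotientGroup.mk_mul, QuotientGroup.mk_mul,
      (QuotientGroup.eq_one_iff _).2 (pow_mem (hmem _ _) _), mul_one]
  have hqk : ∀ a, a ∈ q.ker ↔ a ^ p ∈ D := fun a => by
    rw [MonoidHom.mem_ker]; exact QuotientGroup.eq_one_iff _
  by_cases hq : q.ker = ⊤
  swap
  · left
    refine chain q.ker ?_ (fun a ha => (hqk a).2 (by rw [hzp a ha]; exact one_mem _)) hq ?_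
    · refine Subgroup.characteristic_iff_le_comap.2 fun φ a ha => ?_
      rw [hqk] at ha
      show φ.toMonoidHom a ∈ q.ker
      rw [hqk, ← map_pow]
      exact (Subgroup.characteristic_iff_map_le.1 hDchar φ) ⟨_, ha, rfl⟩
    rw [← card_mul_ker q, mul_comm p]
    refine Nat.mul_le_mul_left _ ?_
    have hle : q.range ≤ Z.map (QuotientGroup.mk' D) := by
      rintro _ ⟨a, rfl⟩
      exact ⟨a ^ p, hpZ a, rfl⟩
    refine (Subgroup.card_le_of_le hle).trans ?_
    have hmapD : D.map (QuotientGroup.mk' D) = ⊥ := by rw [Subgroup.map_eq_bot_iff, QuotientGroup.ker_mk']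
    rw [← hDzZ, Subgroup.map_sup, hmapD, bot_sup_eq, MonoidHom.map_zpowers, Nat.card_zpowers]
    refine Nat.le_of_dvd hp.pos (orderOf_dvd_of_pow_eq_one ?_)
    rw [← map_pow, hzp z hzZ, map_one]
  have hpD : ∀ a : P, a ^ p ∈ D := fun a => (hqk a).1 (hq ▸ Subgroup.mem_top a)
  -- a complement of order `p ^ 3`
  set E := D ⊔ Subgroup.zpowers x ⊔ Subgroup.zpowers y with hE
  have hDx : (D ⊔ Subgroup.zpowers x).Normal := by
    refine ⟨fun n hn g => ?_⟩
    have h : g * n * g⁻¹ * n⁻¹ ∈ D ⊔ Subgroup.zpowers x := Subgroup.mem_sup_left (hmem g n)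
    have h2 := Subgroup.mul_mem _ h hn
    rwa [inv_mul_cancel_right] at h2
  have hEtop : Z ⊔ E = ⊤ := by
    refine eq_top_iff.2 ((hgen x y hxy).ge.trans (sup_le (sup_le le_sup_left ?_) ?_))
    · exact le_sup_of_le_right (le_sup_of_le_left le_sup_right)
    · exact le_sup_of_le_right le_sup_right
  have hEle : Nat.card E ≤ p ^ 3 := by
    refine (card_sup_zpowers_le (N := D ⊔ Subgroup.zpowers x) (Subgroup.mem_sup_left (hpD y))).trans ?_
    rw [pow_succ' p 2, sq, ← hDc]
    exact Nat.mul_le_mul_left _ ((card_sup_zpowers_le (N := D) (hpD x)).trans (by rw [hDc]))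
  have hsum : Nat.card P * Nat.card ↥(Z ⊓ E) = Nat.card Z * Nat.card E := by
    have h1 := card_mul_ker ((QuotientGroup.mk' Z).comp E.subtype)
    have h2 := card_mul_ker (QuotientGroup.mk' Z)
    rw [MonoidHom.range_comp, Subgroup.range_subtype] at h1
    have hm : E.map (QuotientGroup.mk' Z) = ⊤ := by
      rw [← Subgroup.map_top_of_surjective _ (QuotientGroup.mk'_surjective Z), ← hEtop, Subgroup.map_sup Z E,
        show Z.map (QuotientGroup.mk' Z) = ⊥ by rw [Subgroup.map_eq_bot_iff, QuotientGroup.ker_mk'], bot_sup_eq]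
    have hk : Nat.card ((QuotientGroup.mk' Z).comp E.subtype).ker = Nat.card ↥(Z ⊓ E) := by
      rw [← Nat.card_congr (Subgroup.subgroupOfEquivOfLe (inf_le_right : Z ⊓ E ≤ E)).toEquiv]
      congr 2
      ext a
      simp [MonoidHom.mem_ker, Subgroup.mem_subgroupOf]
    rw [hm, hk] at h1
    rw [QuotientGroup.ker_mk', MonoidHom.range_eq_top.2 (QuotientGroup.mk'_surjective Z)] at h2
    rw [← h1, ← h2]
    ring
  have hDE : D ≤ Z ⊓ E := le_inf hDZ (le_sup_left.trans le_sup_left)
  have hEc : Nat.card E = p ^ 3 := by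
    refine le_antisymm hEle ?_
    have h1 := Subgroup.card_le_of_le hDE
    rw [hDc] at h1
    have h2 : p ^ 2 * p ^ 3 ≤ p ^ 2 * Nat.card E := by
      calc p ^ 2 * p ^ 3 = Nat.card P * p := by rw [hcard]; ring
        _ ≤ Nat.card P * Nat.card ↥(Z ⊓ E) := Nat.mul_le_mul_left _ h1
        _ = p ^ 2 * Nat.card E := by rw [hsum, hZ]
    exact Nat.le_of_mul_le_mul_left h2 (pow_pos hp.pos 2)
  have hZE : Z ⊓ E = D := by
    refine (Subgroup.eq_of_le_of_card_ge hDE (le_of_eq ?_)).symm
    rw [hcard, hZ, hEc, ← pow_add, pow_succ p 4] at hsum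
    rw [hDc]
    exact Nat.eq_of_mul_eq_mul_left (pow_pos hp.pos 4) hsum
  have hxE : x ∈ E := Subgroup.mem_sup_left (Subgroup.mem_sup_right (Subgroup.mem_zpowers x))
  have hyE : y ∈ E := Subgroup.mem_sup_right (Subgroup.mem_zpowers y)
  have hEab : ¬ IsMulCommutative E := fun h => hxy (commutatorElement_eq_one_iff_mul_comm.2
    (congrArg Subtype.val (h.1.1 (⟨x, hxE⟩ : E) ⟨y, hyE⟩)))
  let k := MonoidHom.noncommCoprod E.subtype (powHomZMod z (hzp z hzZ)) fun a i =>
    (Subgroup.mem_center_iff.1 (pow_mem hzZ _) a : Commute _ _)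
  have hkE : ∀ a ∈ E, a ∈ k.range := fun a ha => by
    refine ⟨(⟨a, ha⟩, 1), ?_⟩
    show E.subtype ⟨a, ha⟩ * powHomZMod z (hzp z hzZ) 1 = a
    rw [map_one, mul_one]
    rfl
  have hksurj : Function.Surjective k := by
    rw [← MonoidHom.range_eq_top]
    refine eq_top_iff.2 (hEtop.ge.trans (sup_le ?_ ?_))
    · rw [← hDzZ]
      refine sup_le (hDE.trans inf_le_right |>.trans ?_) (Subgroup.zpowers_le.2 ?_)
      · intro a ha; exact hkE a ha
      · obtain ⟨i, hi⟩ := self_mem_range_powHomZMod hp.one_lt z (hzp z hzZ)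
        refine ⟨(1, i), ?_⟩
        show E.subtype 1 * powHomZMod z (hzp z hzZ) i = z
        rw [map_one, one_mul, hi]
    · intro a ha; exact hkE a ha
  have hkbij : Function.Bijective k := hksurj.bijective_of_nat_card_le (by
    rw [Nat.card_prod, hEc, Nat.card_congr Multiplicative.toAdd, Nat.card_zmod, hcard, ← pow_succ])
  let iso := (MulEquiv.ofBijective k hkbij).symm
  rcases hp.eq_two_or_odd' with rfl | hodd
  · by_cases hinv : ∀ a : P, a ^ 2 = 1 → a ∈ Z
    · refine Or.inr (Or.inr (Or.inl ⟨rfl, ?_⟩))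
      have huniq : ∀ H K : Subgroup E, Nat.card H = 2 → Nat.card K = 2 → H = K := by
        have key : ∀ H : Subgroup E, Nat.card H = 2 → H = D.subgroupOf E := by
          intro H hH
          refine Subgroup.eq_of_le_of_card_ge (fun a ha => ?_) ?_
          · have h1 : (a : P) ^ 2 = 1 := by
              rw [← Subgroup.coe_pow, ← hH,
                show a ^ Nat.card H = 1 from congrArg Subtype.val (pow_card_eq_one' (x := (⟨a, ha⟩ : H)))]
              rfl
            exact hZE ▸ (⟨hinv _ h1, a.2⟩ : (a : P) ∈ Z ⊓ E)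
          · rw [Nat.card_congr (Subgroup.subgroupOfEquivOfLe (hDE.trans inf_le_right)).toEquiv, hDc, hH]
        intro H K hH hK
        rw [key H hH, key K hK]
      rcases Cfsg.Agent.Lib.UniqueInvolution.isCyclic_or_quaternion (hP.to_subgroup E) huniq with hc | ⟨-, n, hn, ⟨e⟩⟩
      · exact absurd hc.isMulCommutative hEab
      · have h8 := Nat.card_congr e.toEquiv
        rw [hEc, Nat.card_eq_fintype_card, QuaternionGroup.card] at h8
        have h2 : 2 ^ n = 2 := by
          norm_num at h8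
          omega
        exact ⟨iso.trans (MulEquiv.prodCongr (h2 ▸ e) (MulEquiv.refl _))⟩
    push Not at hinv
    obtain ⟨t, ht2, htZ⟩ := hinv
    left
    obtain ⟨a, ha⟩ : ∃ a : P, a ^ 2 ≠ 1 := by
      by_contra! h
      exact hab ⟨⟨fun a b => by
        have ha := h a; have hb := h b; have hab' := h (a * b)
        rw [sq, mul_eq_one_iff_eq_inv] at ha hb hab'
        rw [hab', mul_inv_rev, ← ha, ← hb]⟩⟩
    have hD2 : ∀ d ∈ D, d ≠ 1 → d = c := by
      intro d hd hd1
      obtain ⟨i, rfl⟩ := mem_powers_iff_mem_zpowers.2 hd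
      simp only at hd1 ⊢
      rcases Nat.even_or_odd' i with ⟨j, rfl | rfl⟩
      · exact absurd (by rw [pow_mul, hcp x y, one_pow]) hd1
      · rw [pow_succ, pow_mul, hcp x y, one_pow, one_mul]
    have hsq : ∀ u v : P, (u * v) ^ 2 = u ^ 2 * v ^ 2 * ⁅v⁻¹, u⁻¹⁆ := fun u v => by
      rw [hpowmul 2 u v, Nat.choose_self, pow_one]
    have hac : a ^ 2 = c := hD2 _ (hpD a) ha
    set N := Z ⊔ Subgroup.zpowers a with hN
    set M := Subgroup.closure {u : P | u ^ 2 ≠ 1} with hM
    have hZn : Z.Normal := inferInstance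
    have hNsq : ∀ u ∈ N, u ∉ Z → u ^ 2 = c := by
      intro u hu huZ
      obtain ⟨w, hw, v, hv, rfl⟩ := Subgroup.mem_sup_of_normal_left.1 hu
      obtain ⟨i, rfl⟩ := mem_powers_iff_mem_zpowers.2 hv
      simp only at huZ ⊢
      rcases Nat.even_or_odd' i with ⟨j, rfl | rfl⟩
      · exact absurd (Subgroup.mul_mem _ hw (by rw [pow_mul]; exact pow_mem (hpZ a) _)) huZ
      · rw [(show Commute w (a ^ (2 * j + 1)) from (Subgroup.mem_center_iff.1 hw _).symm).mul_pow, hzp w hw,
          one_mul, ← pow_mul, mul_comm, pow_mul, hac, pow_succ, pow_mul, hcp x y, one_pow, one_mul]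
    have htN : t ∉ N := fun h => hxy ((hNsq t h htZ).symm.trans ht2)
    have haZ : a ∉ Z := fun h => ha (hzp a h)
    have hta : ⁅t, a⁆ ≠ 1 := by
      intro h
      apply htN
      by_contra _
      -- otherwise `t` would be central
      have hle : Z ⊔ Subgroup.zpowers a ⊔ Subgroup.zpowers t = ⊤ := by
        refine Subgroup.eq_top_of_le_card _ ?_
        have h1 := card_step hP (lt_of_le_of_ne (le_sup_left : Z ≤ N) fun e =>
          haZ (e ▸ Subgroup.mem_sup_right (Subgroup.mem_zpowers a)))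
        have h2 := card_step hP (lt_of_le_of_ne (le_sup_left : N ≤ N ⊔ Subgroup.zpowers t) fun e =>
          htN (e ▸ Subgroup.mem_sup_right (Subgroup.mem_zpowers t)))
        have h3 := (Nat.mul_le_mul_left 2 h1).trans h2
        rwa [hZ, ← mul_assoc, ← sq, ← pow_add, ← hcard] at h3
      refine htZ (Subgroup.mem_center_iff.2 fun g => ?_)
      have hg : Z ⊔ Subgroup.zpowers a ⊔ Subgroup.zpowers t ≤ Subgroup.centralizer ({t} : Set P) := by
        refine sup_le (sup_le (fun w hw => Subgroup.mem_centralizer_singleton_iff.2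
          (Subgroup.mem_center_iff.1 hw t).symm) ?_) ?_ <;>
          rw [Subgroup.zpowers_le, Subgroup.mem_centralizer_singleton_iff]
        exact (commutatorElement_eq_one_iff_mul_comm.1 h).symm
      exact Subgroup.mem_centralizer_singleton_iff.1 (hg (hle ▸ Subgroup.mem_top g))
    have hNc : Nat.card N ≤ 2 * Nat.card Z := card_sup_zpowers_le (hpZ a)
    have hMN : M ≤ N := by
      refine (Subgroup.closure_le _).2 fun u hu => ?_
      by_contra huN
      have hlt : N < ⊤ := lt_of_le_of_ne le_top fun e => htN (e ▸ Subgroup.mem_top t)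
      have hN8 : Nat.card N = 8 := by
        have h1 : 2 * Nat.card Z ≤ Nat.card N := card_step hP (lt_of_le_of_ne (le_sup_left : Z ≤ N) fun e =>
          haZ (e ▸ Subgroup.mem_sup_right (Subgroup.mem_zpowers a)))
        rw [hZ] at h1 hNc
        omega
      have hNi : N.index = 2 := by
        have h := Subgroup.card_mul_index N
        rw [hN8, hcard] at h
        omega
      have hut : u * t ∈ N := (Subgroup.mul_mem_iff_of_index_two hNi).2 (iff_of_false huN htN)
      have htt : t⁻¹ = t := inv_eq_of_mul_eq_one_right (by rw [← sq, ht2])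
      have hu' : u = u * t * t := by rw [mul_assoc, ← sq, ht2, mul_one]
      apply hu
      by_cases hutZ : u * t ∈ Z
      · rw [hu', (show Commute (u * t) t from (Subgroup.mem_center_iff.1 hutZ t).symm).mul_pow, hzp _ hutZ, ht2,
          one_mul]
      · rw [hu', hsq, hNsq _ hut hutZ, ht2, mul_one]
        have hne : ⁅t⁻¹, (u * t)⁻¹⁆ ≠ 1 := by
          intro h
          rw [htt, commutatorElement_eq_one_iff_commute] at h
          apply hta
          rw [commutatorElement_eq_one_iff_commute]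
          have hw : Commute t (u * t) := by simpa using h.inv_right
          obtain ⟨w, hw', v, hv, hwv⟩ := Subgroup.mem_sup_of_normal_left.1 hut
          have htv : Commute t v := by
            have h1 := (show Commute t w from Subgroup.mem_center_iff.1 hw' t).inv_right.mul_right hw
            rwa [← hwv, inv_mul_cancel_left] at h1
          obtain ⟨i, rfl⟩ := mem_powers_iff_mem_zpowers.2 hv
          simp only at htv hwv
          rcases Nat.even_or_odd' i with ⟨j, rfl | rfl⟩
          · exact absurd (hwv ▸ Subgroup.mul_mem _ hw' (by rw [pow_mul]; exact pow_mem (hpZ a) _)) hutZ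
          · rw [pow_succ, pow_mul] at htv
            have h1 := ((show Commute t ((a ^ 2) ^ j) from Subgroup.mem_center_iff.1 (pow_mem (hpZ a) _) t).inv_right).mul_right htv
            rwa [inv_mul_cancel_left] at h1
        rw [hD2 _ (hmem _ _) hne, ← sq, hcp x y]
    have hMne : M ≠ ⊤ := fun h => htN (hMN (h ▸ Subgroup.mem_top t))
    have hMchar : M.Characteristic := by
      refine Subgroup.characteristic_iff_map_le.2 fun φ => ?_
      rw [hM, MonoidHom.map_closure, Subgroup.closure_le]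
      rintro _ ⟨u, hu, rfl⟩
      refine Subgroup.subset_closure fun h => hu ?_
      rw [← map_pow] at h
      exact φ.injective (h.trans (map_one φ).symm)
    have haM : a ∈ M := Subgroup.subset_closure ha
    have hZM : Z ≤ M := fun w hw => by
      have h1 : a * w ∈ M := Subgroup.subset_closure (show (a * w) ^ 2 ≠ 1 by
        rw [(show Commute a w from Subgroup.mem_center_iff.1 hw a).mul_pow, hzp w hw, mul_one]
        exact ha)
      simpa using M.mul_mem (M.inv_mem haM) h1
    refine chain M hMchar hZM hMne ?_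
    have h1 := card_step hP (lt_of_le_of_ne hZM fun e => haZ (e ▸ haM))
    rw [hZ] at h1
    rw [hcard]
    omega
  · -- odd primes
    have hp2 : p ≠ 2 := fun h => by rw [h] at hodd; exact absurd hodd (by decide)
    let f : P →* P := MonoidHom.mk' (fun a => a ^ p) fun a b => by
      rw [hpowmul, Cfsg.Agent.Lib.Thompson.pow_choose_two_eq_one hp2 (hcp _ _), mul_one]
    by_cases he : ∀ a : P, a ^ p = 1
    · refine Or.inr (Or.inl ⟨hodd, ?_⟩)
      obtain ⟨n, ⟨u⟩⟩ := Finite.exists_equiv_fin E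
      let ψ : E →* Equiv.Perm (Fin n) := (u.permCongrHom.toMonoidHom).comp (MulAction.toPermHom E E)
      have hψ : Function.Injective ψ := u.permCongrHom.injective.comp MulAction.toPerm_injective
      let ε : E ≃* ψ.range := MonoidHom.ofInjective hψ
      have hEn : Nat.card ψ.range = p ^ 3 := by rw [← Nat.card_congr ε.toEquiv, hEc]
      refine ⟨ψ.range, inferInstance, inferInstance, isExtraspecial_of_cube ((hP.to_subgroup E).of_equiv ε) hEn
        (fun h => hEab ⟨⟨fun a b => ε.injective (by rw [map_mul, map_mul]; exact h.1.1 _ _)⟩⟩)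
        (fun a => ?_), hEn, fun a => ?_, ⟨iso.trans (MulEquiv.prodCongr ε (MulEquiv.refl _))⟩⟩ <;>
      · obtain ⟨b, rfl⟩ := ε.surjective a
        rw [← map_pow, show b ^ p = 1 from Subtype.ext (he b), map_one]
    · left
      refine chain f.ker (char_ker_of_pow f (fun _ => rfl)) (fun a ha => hzp a ha) (fun h => he fun a => ?_) ?_
      · exact MonoidHom.mem_ker.1 (h ▸ Subgroup.mem_top a)
      rw [← card_mul_ker f, mul_comm p, ← hDc]
      refine Nat.mul_le_mul_left _ (Subgroup.card_le_of_le ?_)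
      rintro _ ⟨a, rfl⟩
      exact hpD a

end Group

section AbelianFourth

variable {H : Type*} [CommGroup H] [Finite H] {p : ℕ} [Fact p.Prime]

/-- Abelian groups of order `p ^ 4` whose socle has order `p ^ 3`. -/
theorem equiv_of_socle_cube (hH : IsPGroup p H) (hcard : Nat.card H = p ^ 4)
    (hV : Nat.card (powMonoidHom p : H →* H).ker = p ^ 3) :
    Nonempty (H ≃* Multiplicative (ZMod (p ^ 2) × ZMod p × ZMod p)) := by
  have hp := (Fact.out : p.Prime)
  set f : H →* H := powMonoidHom p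
  set V := f.ker
  have hR : Nat.card f.range = p := by
    have h := card_mul_ker f
    rw [hV, hcard, pow_succ p 3] at h
    exact Nat.eq_of_mul_eq_mul_left (pow_pos hp.pos 3) h
  obtain ⟨a, ha⟩ : ∃ a : H, a ∉ V := by
    by_contra! h
    have h1 : V = ⊤ := eq_top_iff.2 fun a _ => h a
    rw [h1, Subgroup.card_top, hcard] at hV
    exact absurd (Nat.pow_right_injective hp.two_le hV) (by norm_num)
  have ha2 : a ^ p ^ 2 = 1 := by
    rw [sq, pow_mul]
    show f a ^ p = 1
    rw [← hR]
    exact congrArg Subtype.val (pow_card_eq_one' (x := (⟨f a, ⟨a, rfl⟩⟩ : f.range)))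
  have haV : a ^ p ∈ V := by
    show (a ^ p) ^ p = 1
    rw [← pow_mul, ← sq, ha2]
  set A := Subgroup.zpowers (a ^ p)
  have hAc : Nat.card A = p := by
    rw [Nat.card_zpowers, orderOf_eq_prime (show (a ^ p) ^ p = 1 from haV) ha]
  obtain ⟨b, hbV, hbA⟩ : ∃ b ∈ V, b ∉ A := by
    by_contra! h
    have h1 := Subgroup.card_le_of_le (show V ≤ A from h)
    rw [hV, hAc] at h1
    exact h1.not_gt (lt_self_pow₀ hp.one_lt (by norm_num))
  have hAV : A ≤ V := Subgroup.zpowers_le.2 haV
  have hBc : Nat.card ↥(A ⊔ Subgroup.zpowers b) ≤ p ^ 2 := by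
    refine (card_sup_zpowers_le (N := A) (x := b) (by rw [show b ^ p = 1 from hbV]; exact one_mem _)).trans ?_
    rw [hAc, sq]
  obtain ⟨d, hdV, hdB⟩ : ∃ d ∈ V, d ∉ A ⊔ Subgroup.zpowers b := by
    by_contra! h
    have h1 := (Subgroup.card_le_of_le (show V ≤ A ⊔ Subgroup.zpowers b from h)).trans hBc
    rw [hV] at h1
    exact h1.not_gt (Nat.pow_lt_pow_right hp.one_lt (by norm_num))
  have : NeZero (p ^ 2) := ⟨(pow_pos hp.pos 2).ne'⟩
  let e : Multiplicative (ZMod (p ^ 2) × ZMod p × ZMod p) ≃*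
      Multiplicative (ZMod (p ^ 2)) × Multiplicative (ZMod p) × Multiplicative (ZMod p) :=
    (MulEquiv.prodMultiplicative (ZMod (p ^ 2)) (ZMod p × ZMod p)).trans
      (MulEquiv.prodCongr (MulEquiv.refl _) (MulEquiv.prodMultiplicative (ZMod p) (ZMod p)))
  let k := (powHomZMod a ha2).coprod ((powHomZMod b (show b ^ p = 1 from hbV)).coprod
    (powHomZMod d (show d ^ p = 1 from hdV)))
  have ha' : a ∈ k.range := by
    obtain ⟨i, hi⟩ := self_mem_range_powHomZMod (Nat.one_lt_pow two_ne_zero hp.one_lt) a ha2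
    exact ⟨(i, 1, 1), by simp [k, hi]⟩
  have hb' : b ∈ k.range := by
    obtain ⟨i, hi⟩ := self_mem_range_powHomZMod hp.one_lt b (show b ^ p = 1 from hbV)
    exact ⟨(1, i, 1), by simp [k, hi]⟩
  have hd' : d ∈ k.range := by
    obtain ⟨i, hi⟩ := self_mem_range_powHomZMod hp.one_lt d (show d ^ p = 1 from hdV)
    exact ⟨(1, 1, i), by simp [k, hi]⟩
  have hVle : V ≤ k.range := by
    have h1 := card_step hH (lt_of_le_of_ne (le_sup_left : A ≤ A ⊔ Subgroup.zpowers b) fun h =>
      hbA (h ▸ Subgroup.mem_sup_right (Subgroup.mem_zpowers b)))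
    have h2 := card_step hH (lt_of_le_of_ne
      (le_sup_left : A ⊔ Subgroup.zpowers b ≤ A ⊔ Subgroup.zpowers b ⊔ Subgroup.zpowers d) fun h =>
      hdB (h ▸ Subgroup.mem_sup_right (Subgroup.mem_zpowers d)))
    have h3 := (Nat.mul_le_mul_left p h1).trans h2
    rw [hAc] at h3
    have hle : A ⊔ Subgroup.zpowers b ⊔ Subgroup.zpowers d ≤ V :=
      sup_le (sup_le hAV (Subgroup.zpowers_le.2 hbV)) (Subgroup.zpowers_le.2 hdV)
    rw [← Subgroup.eq_of_le_of_card_ge hle (by rw [hV]; exact (le_of_eq (by ring)).trans h3)]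
    exact sup_le (sup_le (Subgroup.zpowers_le.2 (pow_mem ha' p)) (Subgroup.zpowers_le.2 hb'))
      (Subgroup.zpowers_le.2 hd')
  have htop : k.range = ⊤ := by
    refine Subgroup.eq_top_of_le_card _ ?_
    have h1 := card_step hH (lt_of_le_of_ne hVle fun h => ha (h ▸ ha'))
    rwa [hV, ← pow_succ', ← hcard] at h1
  have hkbij : Function.Bijective k := (MonoidHom.range_eq_top.1 htop).bijective_of_nat_card_le (by
    simp only [Nat.card_prod, Nat.card_congr Multiplicative.toAdd, Nat.card_zmod, hcard]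
    exact le_of_eq (by ring))
  exact ⟨(e.trans (MulEquiv.ofBijective k hkbij)).symm⟩

end AbelianFourth

end Cfsg.Agent.Lib.FusionEssential
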